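import Mathlib
import Cfsg.Agent.H942.ImprimAlt
import Cfsg.Agent.H99.SylTwoDown
import Cfsg.Agent.S0713

/-!
# Overgroups of Sylow subgroups of the alternating groups: tools (helper100)

* `existsUnique_coatom_iff...` : reduction of uniqueness;
* `exists_tau` : an `r`-subgroup of `Perm α`, `r ∣ |α|`, commutes with a fixed-point-free permutation of order `r`;
* `exists_part` : an `r`-group preserves a partition into sets of size `r`;
* `pow_dvd_card_orbit` : orbits of a Sylow subgroup;
* `eq_top_of_primitive` : Jordan's theorem.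
-/

set_option autoImplicit false

namespace Cfsg.Agent.H100.AltSyl

open MulAction Equiv Equiv.Perm
open scoped Pointwise

/-! ### Uniqueness of the maximal overgroup -/

section lattice

variable {G : Type*} [Group G] [Finite G]

theorem le_of_unique {R M0 : Subgroup G} (hu : ∀ M : Subgroup G, IsCoatom M ∧ R ≤ M → M = M0) {H : Subgroup G}
    (hH : H ≠ ⊤) (hR : R ≤ H) : H ≤ M0 := by
  rcases eq_top_or_exists_le_coatom H with h | ⟨M, hM, hle⟩
  · exact absurd h hH
  · rw [← hu M ⟨hM, hR.trans hle⟩]
    exact hle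

theorem existsUnique_of {R H : Subgroup G} (hH : H ≠ ⊤) (hR : R ≤ H)
    (h : ∀ M : Subgroup G, IsCoatom M → R ≤ M → M ≤ H) : ∃! M : Subgroup G, IsCoatom M ∧ R ≤ M := by
  have key : ∀ M : Subgroup G, IsCoatom M → R ≤ M → M = H := by
    intro M hM hRM
    rcases hM.le_iff.1 (h M hM hRM) with h1 | h1
    · exact absurd h1 hH
    · exact h1.symm
  rcases eq_top_or_exists_le_coatom H with h1 | ⟨M, hM, hle⟩
  · exact absurd h1 hH
  · have := key M hM (hR.trans hle)
    subst this
    exact ⟨M, ⟨hM, hR⟩, fun M' hM' => key M' hM'.1 hM'.2⟩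

end lattice

/-! ### Orbits of Sylow subgroups -/

theorem pow_dvd_card_orbit {G X : Type*} [Group G] [Finite G] [MulAction G X] {p : ℕ} [hp : Fact p.Prime]
    (R : Sylow p G) (x : X) :
    p ^ (Nat.card (orbit G x)).factorization p ∣ Nat.card (orbit (R : Subgroup G) x) := by
  have h1 : Nat.card (orbit G x) * Nat.card (stabilizer G x) = Nat.card G := by
    rw [← Nat.card_prod]; exact Nat.card_congr (orbitProdStabilizerEquivGroup G x)
  have h2 : Nat.card (orbit (R : Subgroup G) x) * Nat.card (stabilizer (R : Subgroup G) x) = Nat.card (R : Subgroup G) := by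
    rw [← Nat.card_prod]; exact Nat.card_congr (orbitProdStabilizerEquivGroup (R : Subgroup G) x)
  have h3 : Nat.card (R : Subgroup G) = p ^ (Nat.card G).factorization p := R.card_eq_multiplicity
  have h4 : Nat.card (stabilizer (R : Subgroup G) x) ∣ Nat.card (stabilizer G x) := by
    let f : stabilizer (R : Subgroup G) x →* stabilizer G x :=
      { toFun := fun g => ⟨(g : (R : Subgroup G)), g.2⟩
        map_one' := rfl
        map_mul' := fun _ _ => rfl }
    refine Subgroup.card_dvd_of_injective f ?_
    intro a b h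
    exact Subtype.ext (Subtype.ext (congrArg (fun z => (z.1 : G)) h))
  have hf1 : Finite (orbit G x) := Finite.of_surjective (fun g : G => (⟨g • x, mem_orbit x g⟩ : orbit G x))
    (by rintro ⟨_, g, rfl⟩; exact ⟨g, rfl⟩)
  have hne : Nonempty (orbit G x) := ⟨⟨x, mem_orbit_self x⟩⟩
  have hp1 : Nat.card (orbit G x) ≠ 0 := Nat.card_pos.ne'
  have hp2 : Nat.card (stabilizer G x) ≠ 0 := Nat.card_pos.ne'
  obtain ⟨c, hc, hc'⟩ := (Nat.dvd_prime_pow hp.out).1 (h3 ▸ Dvd.intro _ h2)
  obtain ⟨b, hb, hb'⟩ := (Nat.dvd_prime_pow hp.out).1 (h3 ▸ Dvd.intro_left _ h2)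
  rw [hc']
  apply pow_dvd_pow
  have h5 : c + b = (Nat.card G).factorization p := by
    rw [hc', hb', h3, ← pow_add] at h2
    exact Nat.pow_right_injective hp.out.two_le h2
  have h6 : (Nat.card G).factorization p = (Nat.card (orbit G x)).factorization p +
      (Nat.card (stabilizer G x)).factorization p := by
    rw [← h1, Nat.factorization_mul hp1 hp2, Finsupp.add_apply]
  have h7 : b ≤ (Nat.card (stabilizer G x)).factorization p := by
    rw [hb'] at h4
    exact (hp.out.pow_dvd_iff_le_factorization hp2).1 h4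
  omega

/-! ### Invariant partitions -/

variable {α : Type*} [Fintype α] [DecidableEq α]

/-- The orbits of a `p`-group commuting with a fixed-point-free permutation of order `p`. -/
theorem exists_tau {p : ℕ} [hp : Fact p.Prime] (R : Subgroup (Perm α)) (hR : IsPGroup p R) {m : ℕ} (hm : 1 ≤ m)
    (hα : Fintype.card α = p * m) :
    ∃ τ : Perm α, τ.cycleType = Multiset.replicate m p ∧ ∀ g ∈ R, g * τ = τ * g := by
  obtain ⟨τ, hτ⟩ := (exists_with_cycleType_iff α (m := Multiset.replicate m p)).mpr (by
    constructor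
    · rw [Multiset.sum_replicate, hα, smul_eq_mul, mul_comm]
    · intro a ha
      rw [Multiset.eq_of_mem_replicate ha]
      exact hp.out.two_le)
  have hcard := Subgroup.card_mul_index (Subgroup.centralizer {τ})
  rw [nat_card_centralizer, hτ, Multiset.sum_replicate, hα, Multiset.prod_replicate,
    smul_eq_mul, mul_comm m p, Nat.sub_self, Nat.factorial_zero, one_mul, Nat.card_perm,
    Nat.card_eq_fintype_card, hα] at hcard
  have h2 : (Multiset.replicate m p).toFinset = {p} := by
    rw [Multiset.toFinset_replicate, if_neg (by omega)]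
  rw [h2, Finset.prod_singleton, Multiset.count_replicate_self] at hcard
  have hidx : ¬ p ∣ (Subgroup.centralizer {τ}).index := by
    intro hdvd
    have hne : (Subgroup.centralizer {τ}).index ≠ 0 := by
      intro h0
      rw [h0, mul_zero] at hcard
      exact (Nat.factorial_ne_zero _) hcard.symm
    have h3 := congrArg (fun k => k.factorization p) hcard
    rw [Nat.factorization_mul (mul_ne_zero (pow_ne_zero _ hp.out.ne_zero) (Nat.factorial_ne_zero _)) hne,
      Nat.factorization_mul (pow_ne_zero _ hp.out.ne_zero) (Nat.factorial_ne_zero _), Finsupp.add_apply, Finsupp.add_apply,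
      Nat.Prime.factorization_pow hp.out, Finsupp.single_eq_same, Nat.factorization_factorial_mul hp.out] at h3
    have h4 := hp.out.factorization_pos_of_dvd hne hdvd
    omega
  obtain ⟨g, hg⟩ := Cfsg.Agent.H99.exists_conj_le (p := p) R (Subgroup.centralizer {τ}) hR hidx
  refine ⟨g * τ * g⁻¹, by rw [cycleType_conj, hτ], fun r hr => ?_⟩
  have h := Subgroup.mem_centralizer_singleton_iff.mp (hg r hr)
  calc r * (g * τ * g⁻¹) = g * ((g⁻¹ * r * g) * τ) * g⁻¹ := by group
    _ = g * (τ * (g⁻¹ * r * g)) * g⁻¹ := by rw [h]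
    _ = g * τ * g⁻¹ * r := by group

end Cfsg.Agent.H100.AltSyl
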