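import Mathlib
import Cfsg.Agent.H100.AltSyl.Base

/-!
# Invariant partitions of `p`-groups (helper100)
-/

set_option autoImplicit false

namespace Cfsg.Agent.H100.AltSyl

open MulAction Equiv Equiv.Perm
open scoped Pointwise
open Cfsg.Agent.H942 (part mem_part)

section

variable {α : Type*} [Fintype α] [DecidableEq α]

/-- the translation by `1` on the fibres `Fin m × ZMod p` -/
def tau0 (m p : ℕ) : Perm (Fin m × ZMod p) := Equiv.prodCongr (Equiv.refl _) (Equiv.addRight 1)

theorem tau0_apply (m p : ℕ) (x : Fin m × ZMod p) : tau0 m p x = (x.1, x.2 + 1) := rfl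

theorem tau0_pow_apply (m p k : ℕ) (x : Fin m × ZMod p) : (tau0 m p ^ k) x = (x.1, x.2 + k) := by
  induction k with
  | zero => simp
  | succ k ih => rw [pow_succ', Perm.mul_apply, ih, tau0_apply, Nat.cast_succ, add_assoc]

theorem cycleType_free {p : ℕ} [hp : Fact p.Prime] {σ : Perm α} (h1 : σ ^ p = 1) (hne : ∀ x, σ x ≠ x) {m : ℕ}
    (hm : 1 ≤ m) (hα : Fintype.card α = p * m) : σ.cycleType = Multiset.replicate m p := by
  have h0 : 0 < Fintype.card α := by rw [hα]; exact Nat.mul_pos hp.out.pos hm
  obtain ⟨x0⟩ := Fintype.card_pos_iff.1 h0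
  have h2 : σ ≠ 1 := by
    intro h
    exact hne x0 (by rw [h]; rfl)
  have h3 : orderOf σ = p := orderOf_eq_prime h1 h2
  obtain ⟨k, hk⟩ := cycleType_prime_order (σ := σ) (by rw [h3]; exact hp.out)
  rw [h3] at hk
  have h4 : σ.support = Finset.univ := by
    rw [Finset.eq_univ_iff_forall]
    intro x
    exact Perm.mem_support.2 (hne x)
  have h5 := sum_cycleType σ
  rw [h4, hk, Multiset.sum_replicate, Finset.card_univ, hα, smul_eq_mul, mul_comm p m] at h5
  have h6 : k + 1 = m := Nat.eq_of_mul_eq_mul_right hp.out.pos h5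
  rw [hk, h6]

/-- A `p`-group of permutations preserves a partition into sets of size `p`, whose classes are the cycles of a permutation. -/
theorem exists_part {p : ℕ} [hp : Fact p.Prime] (R : Subgroup (Perm α)) (hR : IsPGroup p R) {m : ℕ} (hm : 1 ≤ m)
    (hα : Fintype.card α = p * m) :
    ∃ f : α → Fin m, (∀ i : Fin m, Nat.card {x : α // f x = i} = p) ∧ R ≤ part f := by
  obtain ⟨τ, hτ, hc⟩ := exists_tau R hR hm hα
  have e : α ≃ Fin m × ZMod p := Fintype.equivOfCardEq (by
    rw [hα, Fintype.card_prod, Fintype.card_fin, ZMod.card, mul_comm])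
  have hpw : ∀ k : ℕ, (e.symm.permCongr (tau0 m p)) ^ k = e.symm.permCongr (tau0 m p ^ k) := by
    intro k
    have := map_pow (e.symm.permCongrHom) (tau0 m p) k
    exact this.symm
  have h1 : (e.symm.permCongr (tau0 m p)).cycleType = τ.cycleType := by
    rw [hτ]
    refine cycleType_free ?_ ?_ hm hα
    · rw [hpw]
      ext x
      rw [Equiv.permCongr_apply, tau0_pow_apply, ZMod.natCast_self, add_zero]
      simp
    · intro x h
      rw [Equiv.permCongr_apply, tau0_apply, Equiv.symm_apply_eq] at h
      have h2 := congrArg Prod.snd h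
      have h3 : (1 : ZMod p) = 0 := by simp at h2
      exact one_ne_zero h3
  obtain ⟨g, hg⟩ := isConj_iff.1 (isConj_of_cycleType_eq h1)
  -- `g * t * g⁻¹ = τ`
  have hpow : ∀ (k : ℕ) (x : α), (τ ^ k) x = g (e.symm ((e (g⁻¹ x)).1, (e (g⁻¹ x)).2 + k)) := by
    intro k x
    have h2 : τ ^ k = g * (e.symm.permCongr (tau0 m p)) ^ k * g⁻¹ := by
      rw [← hg, conj_pow]
    rw [h2, hpw, Perm.mul_apply, Perm.mul_apply]
    congr 1
    rw [Equiv.permCongr_apply, tau0_pow_apply]
    rfl
  refine ⟨fun x => (e (g⁻¹ x)).1, ?_, ?_⟩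
  · intro i
    have e2 : {x : α // (e (g⁻¹ x)).1 = i} ≃ ZMod p :=
      { toFun := fun x => (e (g⁻¹ x.1)).2
        invFun := fun a => ⟨g (e.symm (i, a)), by simp⟩
        left_inv := by
          rintro ⟨x, rfl⟩
          simp
        right_inv := by
          intro a
          simp }
    rw [Nat.card_congr e2, Nat.card_zmod]
  · intro r hr
    rw [mem_part]
    have key : ∀ x y : α, (e (g⁻¹ x)).1 = (e (g⁻¹ y)).1 ↔ ∃ k : ℕ, (τ ^ k) x = y := by
      intro x y
      constructor
      · intro h
        refine ⟨((e (g⁻¹ y)).2 - (e (g⁻¹ x)).2).val, ?_⟩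
        rw [hpow, ZMod.natCast_val, ZMod.cast_id', id, h]
        have : ((e (g⁻¹ y)).1, (e (g⁻¹ x)).2 + ((e (g⁻¹ y)).2 - (e (g⁻¹ x)).2)) = e (g⁻¹ y) := by
          ext
          · rfl
          · simp
        rw [this]
        simp
      · rintro ⟨k, rfl⟩
        rw [hpow]
        simp
    intro x y
    rw [key, key]
    have hk : ∀ k : ℕ, r * τ ^ k = τ ^ k * r := fun k => ((show Commute r τ from hc r hr).pow_right k)
    constructor
    · rintro ⟨k, rfl⟩
      refine ⟨k, ?_⟩
      have := congrArg (fun σ : Perm α => σ x) (hk k)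
      exact this.symm
    · rintro ⟨k, h⟩
      refine ⟨k, ?_⟩
      have := congrArg (fun σ : Perm α => σ x) (hk k)
      simp only [Perm.mul_apply] at this
      rw [h] at this
      exact r.injective this

/-! ### The action on the classes -/

variable {m : ℕ} {f : α → Fin m}

/-- the permutation induced on the classes -/
noncomputable def onClasses (hf : Function.Surjective f) : part f →* Perm (Fin m) where
  toFun g :=
    { toFun := fun i => f ((g : Perm α) (Function.surjInv hf i))
      invFun := fun i => f ((g : Perm α)⁻¹ (Function.surjInv hf i))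
      left_inv := by
        intro i
        have h := (mem_part.1 ((part f).inv_mem g.2)) (Function.surjInv hf (f ((g : Perm α) (Function.surjInv hf i))))
          ((g : Perm α) (Function.surjInv hf i))
        have h2 := h.1 (Function.surjInv_eq hf _)
        show f ((g : Perm α)⁻¹ (Function.surjInv hf (f ((g : Perm α) (Function.surjInv hf i))))) = i
        rw [h2]
        simp [Function.surjInv_eq hf]
      right_inv := by
        intro i
        have h := (mem_part.1 g.2) (Function.surjInv hf (f ((g : Perm α)⁻¹ (Function.surjInv hf i))))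
          ((g : Perm α)⁻¹ (Function.surjInv hf i))
        have h2 := h.1 (Function.surjInv_eq hf _)
        show f ((g : Perm α) (Function.surjInv hf (f ((g : Perm α)⁻¹ (Function.surjInv hf i))))) = i
        rw [h2]
        simp [Function.surjInv_eq hf] }
  map_one' := by
    ext i
    simp [Function.surjInv_eq hf]
  map_mul' := by
    intro g h
    apply Equiv.ext
    intro i
    show f (((g * h : part f) : Perm α) (Function.surjInv hf i)) = f ((g : Perm α) (Function.surjInv hf (f ((h : Perm α) (Function.surjInv hf i)))))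
    rw [(mem_part.1 g.2 _ _).1 (Function.surjInv_eq hf (f ((h : Perm α) (Function.surjInv hf i))))]
    rfl

omit [Fintype α] [DecidableEq α] in
theorem onClasses_apply (hf : Function.Surjective f) (g : part f) (x : α) :
    onClasses hf g (f x) = f ((g : Perm α) x) := by
  show f ((g : Perm α) (Function.surjInv hf (f x))) = _
  exact (mem_part.1 g.2 _ _).1 (Function.surjInv_eq hf (f x))

omit [Fintype α] [DecidableEq α] in
theorem surjective_of_card {a : ℕ} (ha : 1 ≤ a) (hf : ∀ i : Fin m, Nat.card {x : α // f x = i} = a) :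
    Function.Surjective f := by
  intro i
  have h : 0 < Nat.card {x : α // f x = i} := by rw [hf i]; exact ha
  obtain ⟨⟨x, hx⟩⟩ := (Nat.card_pos_iff.1 h).1
  exact ⟨x, hx⟩

/-- nested invariant partitions with classes of sizes `p` and `p ^ 2` -/
theorem exists_part2 {p : ℕ} [hp : Fact p.Prime] (R : Subgroup (Perm α)) (hR : IsPGroup p R) {m' : ℕ} (hm : 1 ≤ m')
    (hα : Fintype.card α = p * (p * m')) :
    ∃ (f : α → Fin (p * m')) (h : Fin (p * m') → Fin m'), (∀ i, Nat.card {x : α // f x = i} = p) ∧
      (∀ j, Nat.card {i // h i = j} = p) ∧ (∀ j, Nat.card {x : α // h (f x) = j} = p * p) ∧ R ≤ part f ∧ R ≤ part (h ∘ f) := by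
  obtain ⟨f, hf, hRf⟩ := exists_part R hR (m := p * m') (Nat.mul_pos hp.out.pos hm) hα
  have hsurj := surjective_of_card hp.out.pos hf
  let ρ : R →* Perm (Fin (p * m')) := (onClasses hsurj).comp (Subgroup.inclusion hRf)
  have hρ : IsPGroup p ρ.range := by
    exact hR.of_surjective ρ.rangeRestrict ρ.rangeRestrict_surjective
  obtain ⟨h, hh, hRh⟩ := exists_part ρ.range hρ (m := m') hm (by rw [Fintype.card_fin])
  refine ⟨f, h, hf, hh, ?_, hRf, ?_⟩
  · intro j
    have e : {x : α // h (f x) = j} ≃ Σ i : {i // h i = j}, {x : α // f x = i} :=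
      { toFun := fun x => ⟨⟨f x.1, x.2⟩, ⟨x.1, rfl⟩⟩
        invFun := fun y => ⟨y.2.1, by rw [y.2.2]; exact y.1.2⟩
        left_inv := fun x => rfl
        right_inv := by
          rintro ⟨⟨i, hi⟩, ⟨x, hx⟩⟩
          change f x = i at hx
          subst hx
          rfl }
    have : Nat.card {x : α // h (f x) = j} = ∑ i : {i // h i = j}, Nat.card {x : α // f x = i} := by
      rw [Nat.card_congr e, Nat.card_sigma]
    rw [this, Finset.sum_congr rfl (fun i _ => hf i.1), Finset.sum_const, Finset.card_univ, ← Nat.card_eq_fintype_card, hh j]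
    rfl
  · intro r hr
    rw [mem_part]
    intro x y
    have h1 := (mem_part.1 (hRh (MonoidHom.mem_range.2 ⟨⟨r, hr⟩, rfl⟩ : ρ ⟨r, hr⟩ ∈ ρ.range))) (f x) (f y)
    have h2 : ∀ z, ρ ⟨r, hr⟩ (f z) = f (r z) := fun z => onClasses_apply hsurj _ z
    rw [h2, h2] at h1
    exact h1

end

end Cfsg.Agent.H100.AltSyl
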