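import Mathlib
import Cfsg.Agent.H100.AltSyl.Part

/-!
# Unique maximal overgroups of Sylow subgroups of the alternating groups: necessity, `n ≠ r` (helper100)
-/

set_option autoImplicit false

namespace Cfsg.Agent.H100.AltSyl

open MulAction Equiv Equiv.Perm
open scoped Pointwise
open Cfsg.Agent.H942 (part mem_part c3 c3_apply_left c3_apply_mid c3_apply_right c3_apply_other swap_mem_part
  isCoatom_part_alt)

/-- The top digit. -/
theorem not_dvd_choose_pow_log {p : ℕ} [hp : Fact p.Prime] {n : ℕ} (hn : 1 ≤ n) : ¬ p ∣ n.choose (p ^ Nat.log p n) := by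
  set k := Nat.log p n with hk
  have h1 : p ^ k ≤ n := Nat.pow_log_le_self p (by omega)
  have h2 : n < p ^ (k + 1) := Nat.lt_pow_succ_log_self hp.out.one_lt n
  have hpk : 0 < p ^ k := pow_pos hp.out.pos k
  have h3 := Choose.choose_modEq_prod_range_choose_nat (p := p) (n := n) (k := p ^ k) (a := k + 1) h2
    (Nat.pow_lt_pow_right hp.out.one_lt (Nat.lt_succ_self k))
  rw [Finset.prod_range_succ] at h3
  have h4 : ∏ i ∈ Finset.range k, (n / p ^ i % p).choose (p ^ k / p ^ i % p) = 1 := by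
    apply Finset.prod_eq_one
    intro i hi
    have hi' := Finset.mem_range.1 hi
    have h5 : p ^ k / p ^ i % p = 0 := by
      rw [Nat.pow_div hi'.le hp.out.pos]
      exact Nat.mod_eq_zero_of_dvd (dvd_pow_self p (by omega))
    rw [h5, Nat.choose_zero_right]
  have h6 : n / p ^ k < p := by
    rw [Nat.div_lt_iff_lt_mul hpk]
    rw [pow_succ] at h2
    linarith
  have h7 : 1 ≤ n / p ^ k := (Nat.one_le_div_iff hpk).2 h1
  rw [h4, one_mul, Nat.div_self hpk, Nat.mod_eq_of_lt h6, Nat.mod_eq_of_lt hp.out.one_lt, Nat.choose_one_right] at h3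
  intro h8
  have h9 : n / p ^ k ≡ 0 [MOD p] := h3.symm.trans ((Nat.modEq_zero_iff_dvd).2 h8)
  rw [Nat.modEq_zero_iff_dvd] at h9
  have := Nat.le_of_dvd h7 h9
  omega

section

variable {α : Type*} [Fintype α] [DecidableEq α]

theorem c3_mem_alt {x y z : α} (hxy : x ≠ y) (hyz : y ≠ z) : c3 x y z ∈ alternatingGroup α := by
  rw [mem_alternatingGroup]
  show sign (swap x y * swap y z) = 1
  rw [Perm.sign_mul, sign_swap hxy, sign_swap hyz]
  rfl

theorem c3_not_mem_part {m : ℕ} {f : α → Fin m} {a b c : α} (hab : a ≠ b) (hf : f a = f b) (hc : f c ≠ f a) :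
    c3 a b c ∉ part f := by
  intro h
  have hac : a ≠ c := by rintro rfl; exact hc rfl
  have hbc : b ≠ c := by rintro rfl; exact hc hf.symm
  have h1 := (mem_part.1 h a b).1 hf
  rw [c3_apply_left hab hac, c3_apply_mid hac hbc] at h1
  exact hc (by rw [hf, h1])

theorem c3_mem_part {m : ℕ} {f : α → Fin m} {a b c : α} (hab : f a = f b) (hbc : f b = f c) : c3 a b c ∈ part f :=
  (part f).mul_mem (swap_mem_part hab) (swap_mem_part hbc)

theorem c3_smul {a b c : α} {t : Set α} (ha : a ∈ t) (hb : b ∈ t) (hc : c ∈ t) : c3 a b c • t = t := by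
  have h2 : ∀ {u v : α}, u ∈ t → v ∈ t → swap u v • t = t := by
    intro u v hu hv
    have h3 : ∀ x ∈ t, swap u v • x ∈ t := by
      intro x hx
      show swap u v x ∈ t
      rcases eq_or_ne x u with rfl | h1
      · rw [swap_apply_left]; exact hv
      rcases eq_or_ne x v with rfl | h2
      · rw [swap_apply_right]; exact hu
      · rw [swap_apply_of_ne_of_ne h1 h2]; exact hx
    apply Set.Subset.antisymm
    · rintro _ ⟨x, hx, rfl⟩
      exact h3 x hx
    · intro x hx
      refine ⟨swap u v • x, h3 x hx, ?_⟩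
      show swap u v (swap u v x) = x
      rw [swap_apply_self]
  show (swap a b * swap b c) • t = t
  rw [mul_smul, h2 hb hc, h2 ha hb]

/-- a set of more than half of the points separates -/
theorem not_stab_le_part {m p : ℕ} {f : α → Fin m} (hp : 3 ≤ p) (hm : 2 ≤ m) (hf : ∀ i, Nat.card {x : α // f x = i} = p)
    (s : Set α) (hs : Nat.card α ≠ 2 * s.ncard) :
    ¬ (stabilizer (alternatingGroup α) s ≤ (part f ⊓ alternatingGroup α).subgroupOf (alternatingGroup α)) := by
  have hcard : Nat.card α = m * p := by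
    have e : α ≃ Σ i : Fin m, {x : α // f x = i} := (Equiv.sigmaFiberEquiv f).symm
    rw [Nat.card_congr e, Nat.card_sigma, Finset.sum_congr rfl (fun i _ => hf i), Finset.sum_const, Finset.card_univ,
      Fintype.card_fin, smul_eq_mul]
  -- choose the larger one
  obtain ⟨t, ht, hst⟩ : ∃ t : Set α, Nat.card α < 2 * t.ncard ∧ (t = s ∨ t = sᶜ) := by
    have h1 := Set.ncard_add_ncard_compl s
    rcases lt_or_gt_of_ne hs with h | h
    · exact ⟨s, h, Or.inl rfl⟩
    · exact ⟨sᶜ, by omega, Or.inr rfl⟩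
  -- two points of `t` in one fibre
  have h1 : m < t.ncard := by nlinarith
  obtain ⟨a, ha, b, hb, hab, hfab⟩ : ∃ a ∈ t, ∃ b ∈ t, a ≠ b ∧ f a = f b := by
    by_contra hcon
    push Not at hcon
    have hinj : Set.InjOn f t := by
      intro a ha b hb h
      by_contra hne
      exact hcon a ha b hb hne h
    have h2 := Set.ncard_le_ncard_of_injOn f (s := t) (t := (Set.univ : Set (Fin m))) (fun _ _ => Set.mem_univ _) hinj
    rw [Set.ncard_univ, Nat.card_fin] at h2
    omega
  obtain ⟨c, hc, hfc⟩ : ∃ c ∈ t, f c ≠ f a := by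
    by_contra hcon
    push Not at hcon
    have h2 : t ⊆ {x | f x = f a} := hcon
    have h3 := Set.ncard_le_ncard h2
    have h4 : {x | f x = f a}.ncard = p := hf (f a)
    rw [h4] at h3
    nlinarith
  intro hle
  have hbc : b ≠ c := by rintro rfl; exact hfc hfab.symm
  have h5 : (⟨c3 a b c, c3_mem_alt hab hbc⟩ : alternatingGroup α) ∈ stabilizer (alternatingGroup α) s := by
    rw [mem_stabilizer_iff]
    show c3 a b c • s = s
    have h6 := c3_smul ha hb hc
    rcases hst with rfl | rfl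
    · exact h6
    · rw [Set.smul_set_compl, compl_inj_iff] at h6
      exact h6
  exact c3_not_mem_part hab hfab hfc ((Subgroup.mem_subgroupOf.1 (hle h5)).1)

theorem not_part_le_part {m m' p : ℕ} (hp : 2 ≤ p) (hm : 1 ≤ m') {f : α → Fin m} {h : Fin m → Fin m'}
    (hf : ∀ i, Nat.card {x : α // f x = i} = p) (hh : ∀ j, Nat.card {i // h i = j} = p) :
    ¬ ((part (h ∘ f) ⊓ alternatingGroup α).subgroupOf (alternatingGroup α) ≤
      (part f ⊓ alternatingGroup α).subgroupOf (alternatingGroup α)) := by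
  obtain ⟨i1, i2, hi1, hi2, hi⟩ : ∃ i1 i2 : Fin m, h i1 = ⟨0, hm⟩ ∧ h i2 = ⟨0, hm⟩ ∧ i1 ≠ i2 := by
    have h1 : 1 < Nat.card {i // h i = ⟨0, hm⟩} := by rw [hh]; omega
    obtain ⟨⟨a, ha⟩, ⟨b, hb⟩, hab⟩ := (Finite.one_lt_card_iff_nontrivial.1 h1).exists_pair_ne
    exact ⟨a, b, ha, hb, fun h => hab (Subtype.ext h)⟩
  obtain ⟨a, b, ha, hb, hab⟩ : ∃ a b : α, f a = i1 ∧ f b = i1 ∧ a ≠ b := by
    have h1 : 1 < Nat.card {x // f x = i1} := by rw [hf]; omega
    obtain ⟨⟨a, ha⟩, ⟨b, hb⟩, hab⟩ := (Finite.one_lt_card_iff_nontrivial.1 h1).exists_pair_ne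
    exact ⟨a, b, ha, hb, fun h => hab (Subtype.ext h)⟩
  obtain ⟨c, hc⟩ := surjective_of_card (by omega : 1 ≤ p) hf i2
  have hfc : f c ≠ f a := by rw [hc, ha]; exact hi.symm
  have hbc : b ≠ c := by rintro rfl; exact hi (hb.symm.trans hc)
  intro hle
  have h1 : (⟨c3 a b c, c3_mem_alt hab hbc⟩ : alternatingGroup α) ∈
      (part (h ∘ f) ⊓ alternatingGroup α).subgroupOf (alternatingGroup α) := by
    rw [Subgroup.mem_subgroupOf]
    refine ⟨c3_mem_part ?_ ?_, c3_mem_alt hab hbc⟩
    · simp only [Function.comp_apply, ha, hb]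
    · simp only [Function.comp_apply, hb, hc, hi1, hi2]
  exact c3_not_mem_part hab (ha.trans hb.symm) hfc ((Subgroup.mem_subgroupOf.1 (hle h1)).1)

/-! ### The unique maximal overgroup -/

theorem isPGroup_map {p : ℕ} (R : Subgroup (alternatingGroup α)) (hR : IsPGroup p R) :
    IsPGroup p (R.map (alternatingGroup α).subtype) := hR.map _

theorem le_subgroupOf {R : Subgroup (alternatingGroup α)} {X : Subgroup (Perm α)}
    (h : R.map (alternatingGroup α).subtype ≤ X) : R ≤ (X ⊓ alternatingGroup α).subgroupOf (alternatingGroup α) := by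
  intro r hr
  rw [Subgroup.mem_subgroupOf]
  exact ⟨h ⟨r, hr, rfl⟩, r.2⟩

/-- Necessity when `r ∣ n`, `r ≠ n`. -/
theorem fwd_dvd {p : ℕ} [hp : Fact p.Prime] (hp2 : p ≠ 2) {n : ℕ} (hα : Fintype.card α = n) (hpn : p ∣ n) (hne : n ≠ p)
    (hn : 7 ≤ n) (R : Subgroup (alternatingGroup α)) (hR : IsPGroup p R)
    (hu : ∃! M : Subgroup (alternatingGroup α), IsCoatom M ∧ R ≤ M) : n = 2 * p ∨ n = p ^ 2 := by
  obtain ⟨M0, -, hM0⟩ := hu
  have hp3 : 3 ≤ p := by
    have := hp.out.two_le
    omega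
  obtain ⟨m, rfl⟩ := hpn
  have hm1 : 1 ≤ m := by
    rcases Nat.eq_zero_or_pos m with rfl | h
    · simp at hn
    · exact h
  have hm : 2 ≤ m := by
    rcases Nat.lt_or_ge 1 m with h | h
    · exact h
    · exact absurd (show p * m = p by rw [show m = 1 by omega, mul_one]) hne
  have h8 : Fintype.card α ≠ 8 := by
    rw [hα]
    intro h
    have h1 : p ∣ 2 ^ 3 := ⟨m, by norm_num; omega⟩
    have h2 := (Nat.prime_dvd_prime_iff_eq hp.out Nat.prime_two).1 (hp.out.dvd_of_dvd_pow h1)
    omega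
  have hmap := isPGroup_map R hR
  obtain ⟨f, hf, hRf⟩ := exists_part (R.map (alternatingGroup α).subtype) hmap hm1 hα
  have hM1 := hM0 _ ⟨isCoatom_part_alt h8 (by omega : 2 ≤ p) hm hf, le_subgroupOf hRf⟩
  -- the invariant sets
  have key : ∀ j : ℕ, 0 < j → j < p * m → ¬ p ∣ (p * m).choose j → p * m = 2 * j := by
    intro j hj0 hj hj2
    by_contra hne2
    obtain ⟨s, hs, hRs⟩ := Cfsg.Agent.H99.exists_set (α := α) R hR j (by rwa [hα])
    have hcard : Nat.card α = p * m := by rw [Nat.card_eq_fintype_card, hα]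
    have h1 : IsCoatom (stabilizer (alternatingGroup α) s) := by
      refine alternatingGroup.isCoatom_stabilizer ?_ ?_ ?_
      · rw [← Set.ncard_pos]; omega
      · rw [← Set.ncard_pos]
        have := Set.ncard_add_ncard_compl s
        omega
      · rw [hs, hcard]; exact hne2
    have h2 := hM0 _ ⟨h1, hRs⟩
    exact not_stab_le_part hp3 hm hf s (by rw [hs, hcard]; exact hne2) (by rw [h2, ← hM1])
  -- the top digit
  have hlog := not_dvd_choose_pow_log (p := p) (n := p * m) (by omega)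
  set k := Nat.log p (p * m) with hk
  have hk1 : p ^ k ≤ p * m := Nat.pow_log_le_self p (by omega)
  have hk0 : 1 ≤ k := by
    rw [hk]
    exact Nat.log_pos hp.out.one_lt (Nat.le_mul_of_pos_right p hm1)
  have hcases : p * m = p ^ k ∨ p * m = 2 * p ^ k := by
    rcases hk1.eq_or_lt with h | h
    · exact Or.inl h.symm
    · exact Or.inr (key _ (pow_pos hp.out.pos k) h hlog)
  -- the second partition
  have hnested : ∀ m' : ℕ, 2 ≤ m' → m ≠ p * m' := by
    intro m' hm' hmm
    subst hmm
    obtain ⟨f1, h1, hf1, hh1, hf2, hR1, hR2⟩ := exists_part2 (R.map (alternatingGroup α).subtype) hmap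
      (by omega : 1 ≤ m') hα
    have e1 := hM0 _ ⟨isCoatom_part_alt h8 (by omega : 2 ≤ p) hm hf1, le_subgroupOf hR1⟩
    have e2 := hM0 _ ⟨isCoatom_part_alt h8 (by nlinarith : 2 ≤ p * p) hm' hf2, le_subgroupOf hR2⟩
    exact not_part_le_part (by omega) (by omega) hf1 hh1 (by rw [e1]; exact e2.le)
  rcases hcases with h | h
  · right
    obtain ⟨l, hl⟩ : ∃ l, k = l + 1 := ⟨k - 1, by omega⟩
    rw [hl, pow_succ'] at h
    have h2 : m = p ^ l := Nat.eq_of_mul_eq_mul_left hp.out.pos h
    rcases Nat.lt_or_ge l 2 with h3 | h3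
    · interval_cases l
      · simp only [pow_zero] at h2
        omega
      · rw [pow_one] at h2
        rw [h2, sq]
    · exfalso
      obtain ⟨l', rfl⟩ : ∃ l', l = l' + 1 + 1 := ⟨l - 2, by omega⟩
      refine hnested (p ^ (l' + 1)) ?_ (by rw [h2, pow_succ' p (l' + 1)])
      calc 2 ≤ p := by omega
        _ = p ^ 1 := (pow_one p).symm
        _ ≤ p ^ (l' + 1) := Nat.pow_le_pow_right hp.out.pos (by omega)
  · left
    obtain ⟨l, hl⟩ : ∃ l, k = l + 1 := ⟨k - 1, by omega⟩
    rw [hl, pow_succ'] at h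
    have h2 : m = 2 * p ^ l := by
      apply Nat.eq_of_mul_eq_mul_left hp.out.pos
      rw [h]; ring
    rcases Nat.eq_zero_or_pos l with h3 | h3
    · rw [h3, pow_zero, mul_one] at h2
      rw [h2, mul_comm]
    · exfalso
      obtain ⟨l', rfl⟩ : ∃ l', l = l' + 1 := ⟨l - 1, by omega⟩
      refine hnested (2 * p ^ l') ?_ (by rw [h2]; ring)
      have : 1 ≤ p ^ l' := pow_pos hp.out.pos l'
      omega

/-- the stabilizer of a point determines the point, up to complement -/
theorem eq_of_stab_le {x : α} {s : Set α} (h4 : 4 ≤ Fintype.card α)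
    (hs : stabilizer (alternatingGroup α) ({x} : Set α) ≤ stabilizer (alternatingGroup α) s) :
    s = ∅ ∨ s = {x} ∨ s = {x}ᶜ ∨ s = Set.univ := by
  -- all points different from `x` behave in the same way
  have key : ∀ y z : α, y ≠ x → z ≠ x → y ∈ s → z ∈ s := by
    intro y z hy hz hys
    rcases eq_or_ne y z with rfl | hyz
    · exact hys
    obtain ⟨w, hw⟩ : ∃ w : α, w ∉ ({x, y, z} : Finset α) := by
      by_contra hcon
      push Not at hcon
      have h4 : Finset.univ ⊆ ({x, y, z} : Finset α) := fun w _ => hcon w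
      have h5 := (Finset.card_le_card h4).trans (Finset.card_le_three)
      rw [Finset.card_univ] at h5
      omega
    simp only [Finset.mem_insert, Finset.mem_singleton, not_or] at hw
    have h1 : (⟨c3 y z w, c3_mem_alt hyz (Ne.symm hw.2.2)⟩ : alternatingGroup α) ∈
        stabilizer (alternatingGroup α) ({x} : Set α) := by
      rw [mem_stabilizer_iff]
      show c3 y z w • ({x} : Set α) = {x}
      rw [Set.smul_set_singleton]
      show ({c3 y z w x} : Set α) = {x}
      rw [c3_apply_other hy.symm hz.symm (Ne.symm hw.1)]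
    have h2 := hs h1
    rw [mem_stabilizer_iff] at h2
    have h3 : c3 y z w • y ∈ s := by
      have : c3 y z w • y ∈ c3 y z w • s := Set.smul_mem_smul_set hys
      have h4 : c3 y z w • s = s := h2
      rwa [h4] at this
    have h4 : c3 y z w • y = z := c3_apply_left hyz (Ne.symm hw.2.1)
    rwa [h4] at h3
  by_cases hxs : x ∈ s
  · by_cases h : ∃ y ∈ s, y ≠ x
    · obtain ⟨y, hy, hyx⟩ := h
      right; right; right
      rw [Set.eq_univ_iff_forall]
      intro z
      rcases eq_or_ne z x with rfl | hz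
      · exact hxs
      · exact key y z hyx hz hy
    · push Not at h
      right; left
      ext z
      constructor
      · intro hz
        exact h z hz
      · rintro rfl
        exact hxs
  · by_cases h : ∃ y ∈ s, y ≠ x
    · obtain ⟨y, hy, hyx⟩ := h
      right; right; left
      ext z
      constructor
      · intro hz hzx
        exact hxs (by rw [← (show z = x from hzx)]; exact hz)
      · intro hz
        exact key y z hyx hz hy
    · push Not at h
      left
      rw [Set.eq_empty_iff_forall_notMem]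
      intro z hz
      exact hxs (by rw [← h z hz]; exact hz)

/-- Necessity when `r ∤ n`. -/
theorem fwd_ndvd {p : ℕ} [hp : Fact p.Prime] (hp2 : p ≠ 2) {n : ℕ} (hα : Fintype.card α = n) (hpn : ¬ p ∣ n) (hle : p ≤ n)
    (hn : 7 ≤ n) (R : Subgroup (alternatingGroup α)) (hR : IsPGroup p R)
    (hu : ∃! M : Subgroup (alternatingGroup α), IsCoatom M ∧ R ≤ M) :
    ∃ k, 1 ≤ k ∧ n = p ^ k + 1 ∧ ∃ x : α, ∀ X : Subgroup (alternatingGroup α), X ≠ ⊤ → R ≤ X →
      X ≤ stabilizer (alternatingGroup α) ({x} : Set α) := by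
  obtain ⟨M0, -, hM0⟩ := hu
  have hcard : Nat.card α = n := by rw [Nat.card_eq_fintype_card, hα]
  have hco : ∀ j : ℕ, 0 < j → j < n → n ≠ 2 * j → ¬ p ∣ n.choose j → ∃ s : Set α, s.ncard = j ∧
      IsCoatom (stabilizer (alternatingGroup α) s) ∧ R ≤ stabilizer (alternatingGroup α) s := by
    intro j hj0 hj hne hj2
    obtain ⟨s, hs, hRs⟩ := Cfsg.Agent.H99.exists_set (α := α) R hR j (by rwa [hα])
    refine ⟨s, hs, alternatingGroup.isCoatom_stabilizer ?_ ?_ ?_, hRs⟩
    · rw [← Set.ncard_pos]; omega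
    · rw [← Set.ncard_pos]
      have := Set.ncard_add_ncard_compl s
      omega
    · rw [hs, hcard]; exact hne
  obtain ⟨s1, hs1, hc1, hR1⟩ := hco 1 (by omega) (by omega) (by omega) (by rwa [Nat.choose_one_right])
  obtain ⟨x, rfl⟩ := Set.ncard_eq_one.1 hs1
  have h1 := hM0 _ ⟨hc1, hR1⟩
  set k := Nat.log p n with hk
  have hk1 : p ^ k ≤ n := Nat.pow_log_le_self p (by omega)
  have hk0 : 1 ≤ k := by
    rw [hk]
    exact Nat.log_pos hp.out.one_lt hle
  have hdk : p ∣ p ^ k := dvd_pow_self p (by omega)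
  have hlt : p ^ k < n := by
    rcases hk1.eq_or_lt with h | h
    · exact absurd (by rw [← h]; exact hdk) hpn
    · exact h
  obtain ⟨s2, hs2, hc2, hR2⟩ := hco (p ^ k) (pow_pos hp.out.pos k) hlt
    (by intro h; exact hpn (by rw [h]; exact hdk.mul_left 2)) (not_dvd_choose_pow_log (by omega))
  have h2 := hM0 _ ⟨hc2, hR2⟩
  have hkk : n = p ^ k + 1 := by
    have hpp : 3 ≤ p ^ k := by
      have h3 := Nat.le_of_dvd (pow_pos hp.out.pos k) hdk
      have h4 := hp.out.two_le
      omega
    rcases eq_of_stab_le (by omega : 4 ≤ Fintype.card α) (by rw [h1, ← h2] :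
      stabilizer (alternatingGroup α) ({x} : Set α) ≤ stabilizer (alternatingGroup α) s2) with h | h | h | h
    · rw [h, Set.ncard_empty] at hs2
      omega
    · rw [h, Set.ncard_singleton] at hs2
      omega
    · rw [h] at hs2
      have := Set.ncard_add_ncard_compl ({x} : Set α)
      rw [Set.ncard_singleton, hs2, hcard] at this
      omega
    · rw [h, Set.ncard_univ] at hs2
      omega
  refine ⟨k, hk0, hkk, x, fun X hX hRX => ?_⟩
  rw [h1]
  exact le_of_unique hM0 hX hRX

end

end Cfsg.Agent.H100.AltSyl
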