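import Mathlib
import Cfsg.Agent.H100.AltSyl.Fwd

/-!
# Unique maximal overgroups of Sylow subgroups of the alternating groups: sufficiency, `n ≠ r` (helper100)
-/

set_option autoImplicit false

namespace Cfsg.Agent.H100.AltSyl

open MulAction Equiv Equiv.Perm
open scoped Pointwise
open Cfsg.Agent.H942 (part mem_part isCoatom_part_alt)

section

variable {α : Type*} [Fintype α] [DecidableEq α] {p : ℕ} [hp : Fact p.Prime]

theorem dvd_card_orbit {G X : Type*} [Group G] [Finite G] [MulAction G X] (R : Sylow p G) (x : X) {j : ℕ}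
    (h : p ^ j ∣ Nat.card (orbit G x)) : p ^ j ∣ Nat.card (orbit (R : Subgroup G) x) := by
  have hf1 : Finite (orbit G x) := Finite.of_surjective (fun g : G => (⟨g • x, mem_orbit x g⟩ : orbit G x))
    (by rintro ⟨_, g, rfl⟩; exact ⟨g, rfl⟩)
  have hne : Nonempty (orbit G x) := ⟨⟨x, mem_orbit_self x⟩⟩
  refine dvd_trans (pow_dvd_pow p ?_) (pow_dvd_card_orbit R x)
  exact (hp.out.pow_dvd_iff_le_factorization Nat.card_pos.ne').1 h

/-- A Sylow subgroup contains a `p`-cycle. -/
theorem exists_cycle (hp2 : p ≠ 2) (hle : p ≤ Fintype.card α) (R : Sylow p (alternatingGroup α)) :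
    ∃ c : alternatingGroup α, c ∈ (R : Subgroup (alternatingGroup α)) ∧ (c : Perm α).IsCycle ∧
      (c : Perm α).support.card = p := by
  obtain ⟨c, hc⟩ := (exists_with_cycleType_iff α (m := {p})).mpr (by
    refine ⟨by rw [Multiset.sum_singleton]; exact hle, fun a ha => ?_⟩
    rw [Multiset.mem_singleton.1 ha]
    exact hp.out.two_le)
  have hcyc : c.IsCycle := by
    rw [← card_cycleType_eq_one, hc]
    rfl
  have hsup : c.support.card = p := by
    rw [← sum_cycleType, hc, Multiset.sum_singleton]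
  have hcA : c ∈ alternatingGroup α := by
    rw [mem_alternatingGroup, hcyc.sign, hsup]
    have := hp.out.odd_of_ne_two hp2
    rw [this.neg_one_pow, neg_neg]
  have hord : orderOf (⟨c, hcA⟩ : alternatingGroup α) = p := by
    rw [Subgroup.orderOf_mk, hcyc.orderOf, hsup]
  have hpg : IsPGroup p (Subgroup.zpowers (⟨c, hcA⟩ : alternatingGroup α)) := by
    apply IsPGroup.of_card (n := 1)
    rw [Nat.card_zpowers, hord, pow_one]
  obtain ⟨g, hg⟩ := Cfsg.Agent.H99.exists_conj_le (p := p) _ (R : Subgroup (alternatingGroup α)) hpg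
    R.not_dvd_index
  refine ⟨_, hg _ (Subgroup.mem_zpowers _), ?_, ?_⟩
  · have : (((g⁻¹ * ⟨c, hcA⟩ * g : alternatingGroup α)) : Perm α) = (g : Perm α)⁻¹ * c * ((g : Perm α)⁻¹)⁻¹ := by
      simp
    rw [this]
    exact hcyc.conj
  · have : (((g⁻¹ * ⟨c, hcA⟩ * g : alternatingGroup α)) : Perm α) = (g : Perm α)⁻¹ * c * ((g : Perm α)⁻¹)⁻¹ := by
      simp
    rw [this, Perm.card_support_conj, hsup]

/-- Jordan's theorem for proper overgroups. -/
theorem not_primitive {M : Subgroup (alternatingGroup α)} (hM : M ≠ ⊤) {c : alternatingGroup α} (hc : c ∈ M)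
    (hcyc : (c : Perm α).IsCycle) (hsup : (c : Perm α).support.card = p) (h5 : 5 ≤ Fintype.card α)
    (h3 : p + 3 ≤ Fintype.card α) : ¬ IsPreprimitive M α := by
  intro hprim
  have h1 : IsPreprimitive (M.map (alternatingGroup α).subtype) α := by
    let φ : M →* M.map (alternatingGroup α).subtype :=
      { toFun := fun m => ⟨(m : alternatingGroup α), ⟨m, m.2, rfl⟩⟩
        map_one' := rfl
        map_mul' := fun _ _ => rfl }
    exact IsPreprimitive.of_surjective (f := (⟨id, fun _ _ => rfl⟩ : α →ₑ[φ] α)) Function.surjective_id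
  have h2 := Cfsg.Agent.S0713.result _ h1 hp.out h5 h3 hcyc hsup ⟨c, hc, rfl⟩
  apply hM
  rw [eq_top_iff]
  intro a _
  obtain ⟨b, hb, hab⟩ := h2 a.2
  have : a = b := Subtype.ext hab.symm
  rw [this]
  exact hb

/-- A nontrivial block through a given point. -/
theorem exists_block {M : Subgroup (alternatingGroup α)} (hM : M ≠ ⊤) {c : alternatingGroup α} (hc : c ∈ M)
    (hcyc : (c : Perm α).IsCycle) (hsup : (c : Perm α).support.card = p) (h5 : 5 ≤ Fintype.card α)
    (h3 : p + 3 ≤ Fintype.card α) (htr : IsPretransitive M α) (a : α) :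
    ∃ B : Set α, a ∈ B ∧ IsBlock M B ∧ ¬ B.Subsingleton ∧ B ≠ Set.univ := by
  by_contra hcon
  push Not at hcon
  apply not_primitive hM hc hcyc hsup h5 h3
  refine IsPreprimitive.of_isTrivialBlock_base a ?_
  intro B ha hB
  by_cases h : B.Subsingleton
  · exact Or.inl h
  · exact Or.inr (hcon B ha hB (Set.not_subsingleton_iff.1 h))

/-- A block through a fixed point of the cycle contains the support or avoids it. -/
theorem support_subset {M : Subgroup (alternatingGroup α)} {c : alternatingGroup α} (hc : c ∈ M)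
    (hcyc : (c : Perm α).IsCycle) {B : Set α} (hB : IsBlock M B) {y z : α} (hy : y ∈ B) (hyc : (c : Perm α) y = y)
    (hz : z ∈ B) (hzc : (c : Perm α) z ≠ z) : ∀ w : α, (c : Perm α) w ≠ w → w ∈ B := by
  intro w hw
  obtain ⟨i, hi⟩ := (hcyc.sameCycle hzc hw)
  have h1 : ((⟨c, hc⟩ : M) ^ i) • B = B := by
    refine hB.smul_eq_of_mem (a := y) hy ?_
    have h2 : ((c : Perm α) ^ i) y = y := zpow_apply_eq_self_of_apply_eq_self hyc i
    have h3 : ((⟨c, hc⟩ : M) ^ i) • y = y := h2
    rw [h3]
    exact hy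
  have h4 : ((⟨c, hc⟩ : M) ^ i) • z ∈ ((⟨c, hc⟩ : M) ^ i) • B := Set.smul_mem_smul_set hz
  rw [h1] at h4
  have h5 : ((⟨c, hc⟩ : M) ^ i) • z = w := hi
  rwa [h5] at h4

omit hp in
/-- A block of size `p` meeting the support of the cycle is the support. -/
theorem block_eq_support {M : Subgroup (alternatingGroup α)} {c : alternatingGroup α} (hc : c ∈ M)
    (hcyc : (c : Perm α).IsCycle) (hsup : (c : Perm α).support.card = p) {B : Set α} (hB : IsBlock M B)
    (hBp : B.ncard = p) {z : α} (hz : z ∈ B) (hzc : (c : Perm α) z ≠ z) : B = {w | (c : Perm α) w ≠ w} := by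
  have hS : ({w | (c : Perm α) w ≠ w} : Set α).ncard = p := by
    have : ({w | (c : Perm α) w ≠ w} : Set α) = ((c : Perm α).support : Set α) := by
      ext w; simp
    rw [this, Set.ncard_coe_finset, hsup]
  refine Set.eq_of_subset_of_ncard_le ?_ ?_ (Set.toFinite _)
  · intro y hy hyc
    have h1 := support_subset hc hcyc hB hy hyc hz hzc
    have h2 : insert y ({w | (c : Perm α) w ≠ w} : Set α) ⊆ B := by
      intro w hw
      rcases hw with rfl | hw
      · exact hy
      · exact h1 w hw
    have h3 := Set.ncard_le_ncard h2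
    rw [Set.ncard_insert_of_notMem (by simpa using hyc), hS, hBp] at h3
    omega
  · rw [hS, hBp]

/-! ### `n = p ^ k + 1` -/

/-- Sylow subgroups of the alternating group of degree `p ^ k + 1` are transitive on the points different from the fixed one. -/
theorem transitive_rest {k : ℕ} (hα : Fintype.card α = p ^ k + 1) (h4 : 4 ≤ Fintype.card α)
    (R : Sylow p (alternatingGroup α)) {x : α} (hx : ∀ r ∈ (R : Subgroup (alternatingGroup α)), (r : Perm α) x = x)
    {y z : α} (hy : y ≠ x) (hz : z ≠ x) : ∃ r ∈ (R : Subgroup (alternatingGroup α)), (r : Perm α) y = z := by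
  have h2t : IsMultiplyPretransitive (alternatingGroup α) α 2 := by
    have := alternatingGroup.isMultiplyPretransitive α
    exact isMultiplyPretransitive_of_le (n := Nat.card α - 2) (by rw [Nat.card_eq_fintype_card]; omega)
      (Nat.sub_le _ _)
  have h1 : orbit (alternatingGroup α) ((x, y) : α × α) = {q : α × α | q.1 ≠ q.2} := by
    ext ⟨u, v⟩
    constructor
    · rintro ⟨g, hg⟩
      have e1 : g • x = u := congrArg Prod.fst hg
      have e2 : g • y = v := congrArg Prod.snd hg
      show u ≠ v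
      rw [← e1, ← e2]
      exact fun h => hy (MulAction.injective g h).symm
    · intro huv
      obtain ⟨g, h1, h2⟩ := (is_two_pretransitive_iff.1 h2t) (Ne.symm hy) (show u ≠ v from huv)
      exact ⟨g, Prod.ext h1 h2⟩
  have h2 : Nat.card (orbit (alternatingGroup α) ((x, y) : α × α)) = (p ^ k + 1) * p ^ k := by
    rw [h1]
    have e1 : ({q : α × α | q.1 ≠ q.2} : Set (α × α)) = ((Finset.univ : Finset α).offDiag : Set (α × α)) := by
      ext q; simp
    rw [e1, Nat.card_coe_set_eq, Set.ncard_coe_finset, Finset.offDiag_card, Finset.card_univ, hα]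
    rw [Nat.mul_comm, ← Nat.sub_one_mul, Nat.add_sub_cancel]
    ring
  have h3 := dvd_card_orbit R ((x, y) : α × α) (j := k) (by rw [h2]; exact Dvd.intro_left _ rfl)
  have h5 : Nat.card (orbit (R : Subgroup (alternatingGroup α)) ((x, y) : α × α)) =
      (orbit (R : Subgroup (alternatingGroup α)) y).ncard := by
    rw [← Nat.card_coe_set_eq]
    refine Nat.card_congr (Equiv.ofBijective (fun q => ⟨q.1.2, ?_⟩) ⟨?_, ?_⟩)
    · obtain ⟨r, hr⟩ := q.2
      exact ⟨r, congrArg Prod.snd hr⟩
    · rintro ⟨q, ⟨r, hr⟩⟩ ⟨q', ⟨r', hr'⟩⟩ h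
      have e0 : q.2 = q'.2 := congrArg Subtype.val h
      have e1 : (r : Perm α) x = q.1 := congrArg Prod.fst hr
      have e2 : (r' : Perm α) x = q'.1 := congrArg Prod.fst hr'
      apply Subtype.ext
      refine Prod.ext ?_ e0
      show q.1 = q'.1
      rw [← e1, ← e2, hx r r.2, hx r' r'.2]
    · rintro ⟨_, ⟨r, rfl⟩⟩
      exact ⟨⟨r • (x, y), ⟨r, rfl⟩⟩, rfl⟩
  rw [h5] at h3
  have h6 : orbit (R : Subgroup (alternatingGroup α)) y ⊆ ({x}ᶜ : Set α) := by
    rintro _ ⟨r, rfl⟩ h
    have e1 : (r : Perm α) y = x := h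
    have e2 := hx r r.2
    exact hy ((r : Perm α).injective (e1.trans e2.symm))
  have h7 : ({x}ᶜ : Set α).ncard = p ^ k := by
    have := Set.ncard_add_ncard_compl ({x} : Set α)
    rw [Set.ncard_singleton, Nat.card_eq_fintype_card, hα] at this
    omega
  have h8 : orbit (R : Subgroup (alternatingGroup α)) y = ({x}ᶜ : Set α) := by
    apply Set.eq_of_subset_of_ncard_le h6
    rw [h7]
    apply Nat.le_of_dvd _ h3
    rw [Set.ncard_pos]
    exact ⟨y, mem_orbit_self y⟩
  have h9 : z ∈ orbit (R : Subgroup (alternatingGroup α)) y := by rw [h8]; exact hz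
  obtain ⟨r, hr⟩ := h9
  exact ⟨r, r.2, hr⟩

/-- `n = p ^ k + 1`, `k ≥ 2`. -/
theorem back_succ (hp2 : p ≠ 2) {k : ℕ} (hk : 2 ≤ k) (hα : Fintype.card α = p ^ k + 1) (h7 : 7 ≤ Fintype.card α)
    (R : Sylow p (alternatingGroup α)) :
    ∃! M : Subgroup (alternatingGroup α), IsCoatom M ∧ (R : Subgroup (alternatingGroup α)) ≤ M := by
  have hp3 : 3 ≤ p := by
    have := hp.out.two_le
    omega
  have hpk : p ^ 2 ≤ p ^ k := Nat.pow_le_pow_right hp.out.pos hk
  have hnd : ¬ p ∣ (Fintype.card α).choose 1 := by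
    rw [Nat.choose_one_right, hα]
    intro h
    have h1 := (Nat.dvd_add_right (dvd_pow_self p (by omega : k ≠ 0))).1 h
    exact hp.out.one_lt.ne' (Nat.dvd_one.1 h1)
  obtain ⟨s, hs, hRs⟩ := Cfsg.Agent.H99.exists_set (α := α) (R : Subgroup (alternatingGroup α)) R.isPGroup' 1 hnd
  obtain ⟨x, rfl⟩ := Set.ncard_eq_one.1 hs
  have hx : ∀ r ∈ (R : Subgroup (alternatingGroup α)), (r : Perm α) x = x := by
    intro r hr
    have := hRs hr
    rw [stabilizer_singleton, mem_stabilizer_iff] at this
    exact this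
  have hco : IsCoatom (stabilizer (alternatingGroup α) ({x} : Set α)) := by
    refine alternatingGroup.isCoatom_stabilizer (Set.singleton_nonempty x) ?_ ?_
    · rw [← Set.ncard_pos]
      have := Set.ncard_add_ncard_compl ({x} : Set α)
      rw [Set.ncard_singleton, Nat.card_eq_fintype_card] at this
      omega
    · rw [Set.ncard_singleton, Nat.card_eq_fintype_card]; omega
  refine existsUnique_of hco.1 hRs ?_
  intro M hM hRM
  by_contra hnle
  obtain ⟨c, hc, hcyc, hsup⟩ := exists_cycle hp2 (by nlinarith : p ≤ Fintype.card α) R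
  obtain ⟨m, hm, hmx⟩ := SetLike.not_le_iff_exists.1 hnle
  have hmx' : (m : Perm α) x ≠ x := by
    intro h
    apply hmx
    rw [stabilizer_singleton, mem_stabilizer_iff]
    exact h
  -- transitivity
  have htr : IsPretransitive M α := by
    rw [isPretransitive_iff_base x]
    intro y
    rcases eq_or_ne y x with rfl | hy
    · exact ⟨1, one_smul _ _⟩
    · obtain ⟨r, hr, hry⟩ := transitive_rest hα (by omega) R hx hmx' hy
      exact ⟨⟨r * m, M.mul_mem (hRM hr) hm⟩, hry⟩
  refine not_primitive hM.1 (hRM hc) hcyc hsup (by omega) (by nlinarith) ?_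
  refine IsPreprimitive.of_isTrivialBlock_base x ?_
  intro B hxB hB
  by_cases h : B.Subsingleton
  · exact Or.inl h
  right
  obtain ⟨y, hy, hyx⟩ : ∃ y ∈ B, y ≠ x := by
    by_contra hcon
    push Not at hcon
    exact h (fun a ha b hb => (hcon a ha).trans (hcon b hb).symm)
  rw [Set.eq_univ_iff_forall]
  intro z
  rcases eq_or_ne z x with rfl | hz
  · exact hxB
  obtain ⟨r, hr, hrz⟩ := transitive_rest hα (by omega) R hx hyx hz
  have h1 : (⟨r, hRM hr⟩ : M) • B = B := by
    refine hB.smul_eq_of_mem (a := x) hxB ?_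
    have : (⟨r, hRM hr⟩ : M) • x = x := hx r hr
    rw [this]
    exact hxB
  have h2 : (⟨r, hRM hr⟩ : M) • y ∈ (⟨r, hRM hr⟩ : M) • B := Set.smul_mem_smul_set hy
  rw [h1] at h2
  have h3 : (⟨r, hRM hr⟩ : M) • y = z := hrz
  rwa [h3] at h2

/-! ### `n = p ^ 2` -/

/-- an element of `part f` maps fibres to fibres, so fibres are blocks -/
theorem isBlock_fibre {m : ℕ} {f : α → Fin m} {M : Subgroup (alternatingGroup α)}
    (hM : ∀ g ∈ M, (g : Perm α) ∈ part f) (i : Fin m) : IsBlock M {x : α | f x = i} := by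
  rw [isBlock_iff_smul_eq_of_mem]
  intro g a ha hga
  have h1 : ∀ g : M, ∀ a : α, f a = i → f (g • a) = i → ∀ b : α, f b = i → f (g • b) = i := by
    intro g a ha hga b hb
    have h2 := (mem_part.1 (hM g g.2) a b).1 (ha.trans hb.symm)
    exact h2.symm.trans hga
  ext y
  constructor
  · rintro ⟨b, hb, rfl⟩
    exact h1 g a ha hga b hb
  · intro hy
    refine ⟨g⁻¹ • y, ?_, smul_inv_smul g y⟩
    exact h1 g⁻¹ (g • a) hga (by rw [inv_smul_smul]; exact ha) y hy

theorem back_sq (hp2 : p ≠ 2) (hα : Fintype.card α = p ^ 2) (h7 : 7 ≤ Fintype.card α)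
    (R : Sylow p (alternatingGroup α)) :
    ∃! M : Subgroup (alternatingGroup α), IsCoatom M ∧ (R : Subgroup (alternatingGroup α)) ≤ M := by
  have hp3 : 3 ≤ p := by
    have := hp.out.two_le
    omega
  have hmap := isPGroup_map (R : Subgroup (alternatingGroup α)) R.isPGroup'
  obtain ⟨f, hf, hRf⟩ := exists_part ((R : Subgroup (alternatingGroup α)).map (alternatingGroup α).subtype) hmap
    (m := p) (by omega) (by rw [hα, sq])
  have h8 : Fintype.card α ≠ 8 := by
    rw [hα]
    intro h
    have h1 : p < 3 := by nlinarith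
    omega
  have hco := isCoatom_part_alt h8 (by omega : 2 ≤ p) (by omega : 2 ≤ p) hf
  have hRpart : ∀ g ∈ (R : Subgroup (alternatingGroup α)), (g : Perm α) ∈ part f := fun g hg => hRf ⟨g, hg, rfl⟩
  obtain ⟨c, hc, hcyc, hsup⟩ := exists_cycle hp2 (by nlinarith : p ≤ Fintype.card α) R
  obtain ⟨d, hd⟩ : ∃ d, (c : Perm α) d ≠ d := by
    by_contra hcon
    push Not at hcon
    exact hcyc.ne_one (Equiv.ext hcon)
  -- transitivity of `R`
  have hRtr : ∀ y z : α, ∃ r ∈ (R : Subgroup (alternatingGroup α)), (r : Perm α) y = z := by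
    intro y z
    have hpre : IsPretransitive (alternatingGroup α) α :=
      alternatingGroup.isPretransitive_of_three_le_card α (by rw [Nat.card_eq_fintype_card]; omega)
    have h1 : Nat.card (orbit (alternatingGroup α) y) = p ^ 2 := by
      rw [orbit_eq_univ, Nat.card_coe_set_eq, Set.ncard_univ, Nat.card_eq_fintype_card, hα]
    have h2 := dvd_card_orbit R y (j := 2) (by rw [h1])
    have h3 : orbit (R : Subgroup (alternatingGroup α)) y = Set.univ := by
      apply Set.eq_of_subset_of_ncard_le (Set.subset_univ _)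
      rw [Set.ncard_univ, Nat.card_eq_fintype_card, hα]
      apply Nat.le_of_dvd _ h2
      rw [Nat.card_coe_set_eq, Set.ncard_pos]
      exact ⟨y, mem_orbit_self y⟩
    have h4 : z ∈ orbit (R : Subgroup (alternatingGroup α)) y := by rw [h3]; trivial
    obtain ⟨r, hr⟩ := h4
    exact ⟨r, r.2, hr⟩
  -- the support of `c` is a fibre
  have hfib : {x : α | f x = f d} = {w | (c : Perm α) w ≠ w} :=
    block_eq_support hc hcyc hsup (isBlock_fibre hRpart (f d)) (hf (f d)) rfl hd
  refine existsUnique_of hco.1 (le_subgroupOf hRf) ?_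
  intro M hM hRM
  have htr : IsPretransitive M α := ⟨fun y z => by
    obtain ⟨r, hr, hrz⟩ := hRtr y z
    exact ⟨⟨r, hRM hr⟩, hrz⟩⟩
  obtain ⟨B, hdB, hB, hB1, hB2⟩ := exists_block hM.1 (hRM hc) hcyc hsup (by omega) (by nlinarith) htr d
  have hBp : B.ncard = p := by
    have h1 : B.ncard ∣ p ^ 2 := by
      rw [← hα, ← Nat.card_eq_fintype_card]
      exact hB.ncard_dvd_card ⟨d, hdB⟩
    obtain ⟨j, hj, hj'⟩ := (Nat.dvd_prime_pow hp.out).1 h1
    interval_cases j
    · exfalso
      apply hB1
      rw [pow_zero] at hj'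
      exact Set.ncard_le_one_iff_subsingleton.1 hj'.le
    · rw [hj', pow_one]
    · exfalso
      apply hB2
      rw [Set.eq_univ_iff_ncard, hj', Nat.card_eq_fintype_card, hα]
  have hBS := block_eq_support (hRM hc) hcyc hsup hB hBp hdB hd
  rw [← hfib] at hBS
  -- `M` preserves the fibres
  have key : ∀ g ∈ M, ∀ x y : α, f x = f y → f ((g : Perm α) x) = f ((g : Perm α) y) := by
    intro g hg x y hxy
    obtain ⟨r, hr, hrx⟩ := hRtr d x
    obtain ⟨r', hr', hrz⟩ := hRtr d ((g : Perm α) x)
    -- `y ∈ r B`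
    have hy : ∃ b ∈ B, (r : Perm α) b = y := by
      refine ⟨(r : Perm α)⁻¹ y, ?_, by simp⟩
      rw [hBS]
      have h1 := (mem_part.1 ((part f).inv_mem (hRpart r hr)) x y).1 hxy
      show f ((r : Perm α)⁻¹ y) = f d
      rw [← h1, ← hrx]
      simp
    obtain ⟨b, hb, hby⟩ := hy
    let g' : M := ⟨g, hg⟩
    let s : M := ⟨r, hRM hr⟩
    let s' : M := ⟨r', hRM hr'⟩
    have h1 : (s'⁻¹ * g' * s) • B = B := by
      refine hB.smul_eq_of_mem (a := d) hdB ?_
      have e1 : (s'⁻¹ * g' * s) • d = d := by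
        rw [mul_smul, mul_smul]
        have e2 : s • d = x := hrx
        have e3 : g' • x = (g : Perm α) x := rfl
        have e4 : s' • d = (g : Perm α) x := hrz
        rw [e2, e3, ← e4, inv_smul_smul]
      rw [e1]; exact hdB
    have h2 : (s'⁻¹ * g' * s) • b ∈ B := by
      have : (s'⁻¹ * g' * s) • b ∈ (s'⁻¹ * g' * s) • B := Set.smul_mem_smul_set hb
      rwa [h1] at this
    have h3 : f ((s'⁻¹ * g' * s) • b) = f d := by
      rw [hBS] at h2
      exact h2
    have h4 := (mem_part.1 (hRpart r' hr') _ _).1 h3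
    have h5 : (r' : Perm α) ((s'⁻¹ * g' * s) • b) = (g : Perm α) y := by
      have e1 : (r' : Perm α) ((s'⁻¹ * g' * s) • b) = s' • (s'⁻¹ * g' * s) • b := rfl
      rw [e1, mul_smul, mul_smul, smul_inv_smul]
      show (g : Perm α) ((r : Perm α) b) = _
      rw [hby]
    rw [h5, hrz] at h4
    exact h4.symm
  intro g hg
  rw [Subgroup.mem_subgroupOf]
  refine ⟨?_, g.2⟩
  show (g : Perm α) ∈ part f
  rw [mem_part]
  intro x y
  constructor
  · exact key g hg x y
  · intro h
    have h1 := key g⁻¹ (M.inv_mem hg) _ _ h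
    simpa using h1

/-! ### `n = 2 p` -/

theorem back_two_mul (hp2 : p ≠ 2) (hα : Fintype.card α = 2 * p) (h7 : 7 ≤ Fintype.card α)
    (R : Sylow p (alternatingGroup α)) :
    ∃! M : Subgroup (alternatingGroup α), IsCoatom M ∧ (R : Subgroup (alternatingGroup α)) ≤ M := by
  have hp3 : 4 ≤ p := by omega
  have hp4 : p ≠ 4 := by
    rintro rfl
    exact absurd hp.out (by norm_num)
  have hcard : Nat.card α = 2 * p := by rw [Nat.card_eq_fintype_card, hα]
  -- orbits of `R`
  have horb : ∀ y : α, p ∣ (orbit (R : Subgroup (alternatingGroup α)) y).ncard := by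
    intro y
    have hpre : IsPretransitive (alternatingGroup α) α :=
      alternatingGroup.isPretransitive_of_three_le_card α (by rw [Nat.card_eq_fintype_card]; omega)
    have h1 : Nat.card (orbit (alternatingGroup α) y) = 2 * p := by
      rw [orbit_eq_univ, Nat.card_coe_set_eq, Set.ncard_univ, hcard]
    have h2 := dvd_card_orbit R y (j := 1) (by rw [h1, pow_one]; exact dvd_mul_left _ _)
    rwa [pow_one, Nat.card_coe_set_eq] at h2
  -- the invariant set
  have hnd : ¬ p ∣ (Fintype.card α).choose p := by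
    have h1 := not_dvd_choose_pow_log (p := p) (n := Fintype.card α) (by omega)
    have h2 : Nat.log p (Fintype.card α) = 1 := by
      rw [Nat.log_eq_one_iff]
      refine ⟨by rw [hα]; nlinarith, hp.out.one_lt, by omega⟩
    rwa [h2, pow_one] at h1
  obtain ⟨Δ, hΔ, hRΔ⟩ := Cfsg.Agent.H99.exists_set (α := α) (R : Subgroup (alternatingGroup α)) R.isPGroup' p hnd
  have hΔc : (Δᶜ).ncard = p := by
    have := Set.ncard_add_ncard_compl Δ
    omega
  have hinv : ∀ (S : Set α), (∀ r ∈ (R : Subgroup (alternatingGroup α)), r • S = S) → S.ncard = p → ∀ y ∈ S,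
      orbit (R : Subgroup (alternatingGroup α)) y = S := by
    intro S hS hSp y hy
    refine Set.eq_of_subset_of_ncard_le ?_ ?_ (Set.toFinite _)
    · rintro _ ⟨r, rfl⟩
      have h1 : (r : alternatingGroup α) • y ∈ (r : alternatingGroup α) • S := Set.smul_mem_smul_set hy
      rw [hS r r.2] at h1
      exact h1
    · rw [hSp]
      apply Nat.le_of_dvd _ (horb y)
      rw [Set.ncard_pos]
      exact ⟨y, mem_orbit_self y⟩
  obtain ⟨c, hc, hcyc, hsup⟩ := exists_cycle hp2 (by omega : p ≤ Fintype.card α) R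
  obtain ⟨d, hd⟩ : ∃ d, (c : Perm α) d ≠ d := by
    by_contra hcon
    push Not at hcon
    exact hcyc.ne_one (Equiv.ext hcon)
  -- the orbit `D` of `d`
  obtain ⟨D, hdD, hDp, hRD⟩ : ∃ D : Set α, d ∈ D ∧ D.ncard = p ∧ ∀ r ∈ (R : Subgroup (alternatingGroup α)), r • D = D := by
    by_cases h : d ∈ Δ
    · exact ⟨Δ, h, hΔ, fun r hr => mem_stabilizer_iff.1 (hRΔ hr)⟩
    · exact ⟨Δᶜ, h, hΔc, fun r hr => by rw [Set.smul_set_compl, mem_stabilizer_iff.1 (hRΔ hr)]⟩
  have hDc : (Dᶜ).ncard = p := by
    have := Set.ncard_add_ncard_compl D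
    omega
  have hRDc : ∀ r ∈ (R : Subgroup (alternatingGroup α)), r • Dᶜ = Dᶜ := by
    intro r hr
    rw [Set.smul_set_compl, hRD r hr]
  -- the support of `c` is `D`
  have hS : ({w | (c : Perm α) w ≠ w} : Set α).ncard = p := by
    have : ({w | (c : Perm α) w ≠ w} : Set α) = ((c : Perm α).support : Set α) := by
      ext w; simp
    rw [this, Set.ncard_coe_finset, hsup]
  have hSD : ({w | (c : Perm α) w ≠ w} : Set α) = D := by
    refine Set.eq_of_subset_of_ncard_le ?_ (by rw [hS, hDp]) (Set.toFinite _)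
    intro w hw
    obtain ⟨i, hi⟩ := hcyc.sameCycle hd hw
    have h1 : (c ^ i : alternatingGroup α) • d ∈ (c ^ i : alternatingGroup α) • D := Set.smul_mem_smul_set hdD
    rw [hRD _ ((R : Subgroup (alternatingGroup α)).zpow_mem hc i)] at h1
    have h2 : (c ^ i : alternatingGroup α) • d = w := hi
    rwa [h2] at h1
  obtain ⟨y0, hy0⟩ : (Dᶜ).Nonempty := by rw [← Set.ncard_pos, hDc]; omega
  have hy0c : (c : Perm α) y0 = y0 := by
    by_contra h
    exact hy0 (hSD ▸ h : y0 ∈ D)
  -- the partition
  classical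
  let f : α → Fin 2 := fun x => if x ∈ D then 0 else 1
  have hf0 : {x : α | f x = 0} = D := by
    ext x
    by_cases h : x ∈ D <;> simp [f, h]
  have hf1 : {x : α | f x = 1} = Dᶜ := by
    ext x
    by_cases h : x ∈ D <;> simp [f, h]
  have hfc : ∀ i : Fin 2, Nat.card {x : α // f x = i} = p := by
    intro i
    fin_cases i
    · show Nat.card ({x : α | f x = 0} : Set α) = p
      rw [hf0, Nat.card_coe_set_eq, hDp]
    · show Nat.card ({x : α | f x = 1} : Set α) = p
      rw [hf1, Nat.card_coe_set_eq, hDc]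
  have hpart : ∀ g : alternatingGroup α, (g • D = D ∨ g • D = Dᶜ) →
      g ∈ (part f ⊓ alternatingGroup α).subgroupOf (alternatingGroup α) := by
    intro g hg
    rw [Subgroup.mem_subgroupOf]
    refine ⟨?_, g.2⟩
    show (g : Perm α) ∈ part f
    rw [mem_part]
    have hmem : ∀ x, f x = 0 ↔ x ∈ D := fun x => by rw [← hf0]; rfl
    have hfin : ∀ i j : Fin 2, i = j ↔ (i = 0 ↔ j = 0) := by decide
    have hgx : ∀ x, (x ∈ D ↔ (g : Perm α) x ∈ g • D) := fun x => (Set.smul_mem_smul_set_iff (a := g)).symm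
    intro x y
    rw [hfin (f x), hfin (f ((g : Perm α) x)), hmem, hmem, hmem, hmem]
    rcases hg with h | h
    · rw [hgx x, hgx y, h]
    · rw [hgx x, hgx y, h, Set.mem_compl_iff, Set.mem_compl_iff, not_iff_not]
  have hco := isCoatom_part_alt (f := f) (by omega) (by omega : 2 ≤ p) le_rfl hfc
  refine existsUnique_of hco.1 (fun r hr => hpart r (Or.inl (hRD r hr))) ?_
  intro M hM hRM
  by_cases htr : IsPretransitive M α
  · -- transitive case
    obtain ⟨B, hyB, hB, hB1, hB2⟩ := exists_block hM.1 (hRM hc) hcyc hsup (by omega) (by omega) htr y0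
    have hBD : B ⊆ Dᶜ := by
      intro z hz hzD
      have hzc : (c : Perm α) z ≠ z := by
        have : z ∈ ({w | (c : Perm α) w ≠ w} : Set α) := by rw [hSD]; exact hzD
        exact this
      have h1 := support_subset (hRM hc) hcyc hB hyB hy0c hz hzc
      have h2 : insert y0 D ⊆ B := by
        intro w hw
        rcases hw with rfl | hw
        · exact hyB
        · exact h1 w (by
            have : w ∈ ({w | (c : Perm α) w ≠ w} : Set α) := by rw [hSD]; exact hw
            exact this)
      have h3 := Set.ncard_le_ncard h2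
      rw [Set.ncard_insert_of_notMem hy0, hDp] at h3
      exact hB2 (hB.eq_univ_of_card_lt (by rw [hcard]; omega))
    -- `B = Dᶜ` since `R` is primitive on `Dᶜ`
    have hRorb : orbit (R : Subgroup (alternatingGroup α)) y0 = Dᶜ := hinv _ hRDc hDc y0 hy0
    have hBeq : B = Dᶜ := by
      have hprim : IsPreprimitive (R : Subgroup (alternatingGroup α)) (orbit (R : Subgroup (alternatingGroup α)) y0) := by
        apply IsPreprimitive.of_prime_card
        rw [Nat.card_coe_set_eq, hRorb, hDc]
        exact hp.out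
      have hBR : IsBlock (R : Subgroup (alternatingGroup α)) B := by
        rw [isBlock_iff_smul_eq_of_mem]
        intro r a ha hra
        have h1 : (⟨r, hRM r.2⟩ : M) • B = B := hB.smul_eq_of_mem (a := a) ha hra
        exact h1
      have hblk : IsBlock (R : Subgroup (alternatingGroup α)) ((Subtype.val : orbit (R : Subgroup (alternatingGroup α)) y0 → α) ⁻¹' B) := by
        rw [isBlock_iff_smul_eq_of_mem]
        intro r a ha hra
        have h1 : r • B = B := hBR.smul_eq_of_mem (a := (a : α)) ha hra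
        ext z
        constructor
        · rintro ⟨w, hw, rfl⟩
          have h2 : r • (w : α) ∈ r • B := Set.smul_mem_smul_set hw
          rw [h1] at h2
          exact h2
        · intro hz
          refine ⟨r⁻¹ • z, ?_, smul_inv_smul r z⟩
          have h2 : (z : α) ∈ r • B := by rw [h1]; exact hz
          show r⁻¹ • (z : α) ∈ B
          exact Set.mem_smul_set_iff_inv_smul_mem.1 h2
      rcases hprim.isTrivialBlock_of_isBlock hblk with h | h
      · exfalso
        apply hB1
        intro a ha b hb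
        have ha' : a ∈ orbit (R : Subgroup (alternatingGroup α)) y0 := by rw [hRorb]; exact hBD ha
        have hb' : b ∈ orbit (R : Subgroup (alternatingGroup α)) y0 := by rw [hRorb]; exact hBD hb
        have := h (show (⟨a, ha'⟩ : orbit (R : Subgroup (alternatingGroup α)) y0) ∈ Subtype.val ⁻¹' B from ha)
          (show (⟨b, hb'⟩ : orbit (R : Subgroup (alternatingGroup α)) y0) ∈ Subtype.val ⁻¹' B from hb)
        exact congrArg Subtype.val this
      · refine Set.Subset.antisymm hBD ?_
        intro z hz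
        have hz' : z ∈ orbit (R : Subgroup (alternatingGroup α)) y0 := by rw [hRorb]; exact hz
        have : (⟨z, hz'⟩ : orbit (R : Subgroup (alternatingGroup α)) y0) ∈
          ((Subtype.val : orbit (R : Subgroup (alternatingGroup α)) y0 → α) ⁻¹' B) := by rw [h]; trivial
        exact this
    intro g hg
    apply hpart
    have h1 := hB.smul_eq_or_disjoint (⟨g, hg⟩ : M)
    have h2 : (⟨g, hg⟩ : M) • B = g • Dᶜ := by rw [hBeq]; rfl
    rw [h2, hBeq, Set.smul_set_compl] at h1
    rcases h1 with h1 | h1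
    · left
      exact compl_injective h1
    · right
      -- `(g D)ᶜ` is disjoint from `Dᶜ`
      have h3 : (g • D)ᶜ ⊆ D := by
        intro z hz
        by_contra hzD
        exact Set.disjoint_left.1 h1 hz hzD
      have h4 : (g • D)ᶜ = D := by
        refine Set.eq_of_subset_of_ncard_le h3 ?_ (Set.toFinite _)
        rw [hDp]
        have := Set.ncard_add_ncard_compl (g • D)
        rw [Set.ncard_smul_set, hDp, hcard] at this
        omega
      have h5 := congrArg compl h4
      rwa [compl_compl] at h5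
  · -- intransitive case
    intro g hg
    apply hpart
    left
    by_contra hne
    apply htr
    -- some `x ∈ D` is mapped outside `D`
    obtain ⟨x, hx, hgx⟩ : ∃ x ∈ D, (g : Perm α) x ∉ D := by
      by_contra hcon
      push Not at hcon
      apply hne
      refine Set.eq_of_subset_of_ncard_le ?_ ?_ (Set.toFinite _)
      · rintro _ ⟨x, hx, rfl⟩
        exact hcon x hx
      · rw [Set.ncard_smul_set]
    rw [isPretransitive_iff_base x]
    intro z
    by_cases hz : z ∈ D
    · have h1 : z ∈ orbit (R : Subgroup (alternatingGroup α)) x := by rw [hinv D hRD hDp x hx]; exact hz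
      obtain ⟨r, hr⟩ := h1
      exact ⟨⟨r, hRM r.2⟩, hr⟩
    · have h1 : z ∈ orbit (R : Subgroup (alternatingGroup α)) ((g : Perm α) x) := by
        rw [hinv Dᶜ hRDc hDc _ hgx]; exact hz
      obtain ⟨r, hr⟩ := h1
      exact ⟨⟨r * g, M.mul_mem (hRM r.2) hg⟩, hr⟩

end

end Cfsg.Agent.H100.AltSyl
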