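import Mathlib
import Cfsg.Agent.H99.SylTwoDown

/-!
# Simple permutation groups of degree `n < 2 p` containing a given subgroup of order `p` (helper100)
-/

set_option autoImplicit false

namespace Cfsg.Agent.H100.AltSyl

open MulAction Equiv Equiv.Perm

section

variable {α : Type*} [Fintype α] [DecidableEq α]

theorem not_sq_dvd_card_alt {p : ℕ} [hp : Fact p.Prime] (h : Fintype.card α < 2 * p)
    (h1 : 2 ≤ Fintype.card α) : ¬ p ^ 2 ∣ Nat.card (alternatingGroup α) := by
  intro h2
  have h3 : Nontrivial α := Fintype.one_lt_card_iff_nontrivial.1 h1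
  have h4 : 2 * Nat.card (alternatingGroup α) = (Fintype.card α).factorial := by
    rw [nat_card_alternatingGroup, Nat.card_eq_fintype_card]
    exact Nat.mul_div_cancel' (Nat.dvd_factorial (by norm_num) h1)
  have h5 : p ^ 2 ∣ (Fintype.card α).factorial := by
    rw [← h4]
    exact h2.mul_left 2
  have hp3 := hp.out.two_le
  have h6 := (hp.out.pow_dvd_factorial_iff (n := Fintype.card α) (r := 2) (b := 2) (by
    have h7 : Fintype.card α < p ^ 2 := by nlinarith
    exact (Nat.log_lt_iff_lt_pow hp.out.one_lt (by omega)).2 h7)).1 h5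
  have h8 : ∑ i ∈ Finset.Ico 1 2, Fintype.card α / p ^ i = Fintype.card α / p := by
    rw [show Finset.Ico 1 2 = {1} from rfl, Finset.sum_singleton, pow_one]
  rw [h8] at h6
  have h9 : Fintype.card α / p < 2 := (Nat.div_lt_iff_lt_mul hp.out.pos).2 h
  omega

theorem hom_le_alt {H : Type*} [Group H] [IsSimpleGroup H] (hna : ¬ ∀ a b : H, a * b = b * a) (φ : H →* Perm α)
    (h : H) : φ h ∈ alternatingGroup α := by
  let s : H →* ℤˣ := sign.comp φ
  rcases (inferInstance : s.ker.Normal).eq_bot_or_eq_top with h1 | h1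
  · exfalso
    apply hna
    intro a b
    apply (MonoidHom.ker_eq_bot_iff s).1 h1
    rw [map_mul, map_mul, mul_comm]
  · have h2 : h ∈ s.ker := by rw [h1]; trivial
    rw [mem_alternatingGroup]
    exact h2

/-- embedding of a simple permutation group -/
theorem exists_embed {p : ℕ} [hp : Fact p.Prime] (R : Subgroup (alternatingGroup α)) (hR : IsPGroup p R)
    (hp2 : ¬ p ^ 2 ∣ Nat.card (alternatingGroup α)) {H X : Type*} [Group H] [MulAction H X] [FaithfulSMul H X]
    [IsSimpleGroup H] (hna : ¬ ∀ a b : H, a * b = b * a) (hdvd : p ∣ Nat.card H) (hX : Nat.card X = Fintype.card α)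
    (hX0 : Fintype.card α ≠ 0) :
    ∃ (ψ : H →* alternatingGroup α) (e : X ≃ α), Function.Injective ψ ∧
      (∀ h x, (ψ h : Perm α) (e x) = e (h • x)) ∧ R ≤ ψ.range := by
  have hfin : Finite X := (Nat.card_ne_zero.1 (by rw [hX]; exact hX0)).2
  have hft : Fintype X := Fintype.ofFinite X
  let e0 : X ≃ α := Fintype.equivOfCardEq (by rw [← Nat.card_eq_fintype_card, hX])
  let φ : H →* Perm α := e0.permCongrHom.toMonoidHom.comp (toPermHom H X)
  have hφ : ∀ h x, φ h (e0 x) = e0 (h • x) := by
    intro h x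
    show e0 (h • e0.symm (e0 x)) = _
    rw [Equiv.symm_apply_apply]
  have hinj : Function.Injective φ := by
    refine e0.permCongrHom.injective.comp ?_
    exact toPerm_injective
  let ψ0 : H →* alternatingGroup α := φ.codRestrict (alternatingGroup α) (hom_le_alt hna φ)
  have hψ0 : Function.Injective ψ0 := by
    intro a b h
    exact hinj (congrArg Subtype.val h)
  have hcard : Nat.card ψ0.range = Nat.card H := (Nat.card_congr (MonoidHom.ofInjective hψ0).toEquiv).symm
  have hidx : ¬ p ∣ ψ0.range.index := by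
    intro h
    apply hp2
    rw [← Subgroup.card_mul_index ψ0.range, sq]
    exact mul_dvd_mul (by rw [hcard]; exact hdvd) h
  obtain ⟨g, hg⟩ := Cfsg.Agent.H99.exists_conj_le (p := p) R ψ0.range hR hidx
  refine ⟨(MulAut.conj g).toMonoidHom.comp ψ0, e0.trans (g : Perm α), ?_, ?_, ?_⟩
  · exact (MulAut.conj g).injective.comp hψ0
  · intro h x
    show ((g : Perm α) * φ h * (g : Perm α)⁻¹) ((g : Perm α) (e0 x)) = (g : Perm α) (e0 (h • x))
    rw [← hφ]
    simp
  · intro r hr
    obtain ⟨h, hh⟩ := hg r hr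
    refine ⟨h, ?_⟩
    show g * ψ0 h * g⁻¹ = r
    rw [hh]
    group

end

end Cfsg.Agent.H100.AltSyl
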