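import Mathlib
import Cfsg.Agent.H100.AltSyl.Fwd
import Cfsg.Agent.H100.AltSyl.PrimeDeg
import Cfsg.Prelude.Def_Spor_Mathieu

/-!
# Unique maximal overgroups of Sylow subgroups of the alternating groups: sufficiency, `n = r` (helper100)
-/

set_option autoImplicit false

namespace Cfsg.Agent.H100.AltSyl

open MulAction Equiv Equiv.Perm
open scoped Pointwise

universe u

/-- The theorem on the subgroups of prime index of the simple groups (`H410.PrimeIndex.prime_index`). -/
def PrimeIdx : Prop :=
  ∀ (T : Type u) [Group T] [Finite T] [IsSimpleGroup T], ¬ IsMulCommutative T → ∀ (H : Subgroup T) (p : ℕ), p.Prime →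
    H.index = p →
    (5 ≤ p ∧ Nonempty (T ≃* alternatingGroup (Fin p))) ∨
    (∃ (d : ℕ) (F : Type) (_ : Field F) (_ : Fintype F), 2 ≤ d ∧ Fintype.card F ^ d - 1 = p * (Fintype.card F - 1) ∧
      Nonempty (T ≃* Matrix.ProjectiveSpecialLinearGroup (Fin d) F)) ∨
    (p = 11 ∧ (Nonempty (T ≃* Matrix.ProjectiveSpecialLinearGroup (Fin 2) (ZMod 11)) ∨ Cfsg.Spor.IsoM11 T)) ∨
    (p = 23 ∧ Cfsg.Spor.IsoM23 T)

section

variable {α : Type u} [Fintype α] [DecidableEq α] {p : ℕ} [hp : Fact p.Prime]

/-- The Sylow subgroup is transitive. -/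
theorem pr_transitive (hα : Fintype.card α = p) (h3 : 3 ≤ p) (R : Sylow p (alternatingGroup α)) :
    IsPretransitive (R : Subgroup (alternatingGroup α)) α := by
  have hpre : IsPretransitive (alternatingGroup α) α :=
    alternatingGroup.isPretransitive_of_three_le_card α (by rw [Nat.card_eq_fintype_card, hα]; exact h3)
  have hprim : ∀ a b : α, ∃ g : (R : Subgroup (alternatingGroup α)), g • a = b := by
    intro a b
    have h1 : p ∣ Nat.card (alternatingGroup α) := pd_dvd hα
    have h2 : Nat.card (orbit (alternatingGroup α) a) = p := by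
      rw [orbit_eq_univ, Nat.card_coe_set_eq, Set.ncard_univ, Nat.card_eq_fintype_card, hα]
    have h4 := pow_dvd_card_orbit R a
    rw [h2, Nat.Prime.factorization_self hp.out, pow_one] at h4
    have h5 : orbit (R : Subgroup (alternatingGroup α)) a = Set.univ := by
      refine Set.eq_of_subset_of_ncard_le (Set.subset_univ _) ?_ (Set.toFinite _)
      rw [Set.ncard_univ, Nat.card_eq_fintype_card, hα]
      apply Nat.le_of_dvd _ h4
      rw [Nat.card_coe_set_eq, Set.ncard_pos]
      exact ⟨a, mem_orbit_self a⟩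
    have h6 : b ∈ orbit (R : Subgroup (alternatingGroup α)) a := by rw [h5]; trivial
    exact h6
  exact ⟨hprim⟩

theorem pr_transitive_of_le (hα : Fintype.card α = p) (h3 : 3 ≤ p) (R : Sylow p (alternatingGroup α))
    {M : Subgroup (alternatingGroup α)} (hM : (R : Subgroup (alternatingGroup α)) ≤ M) : IsPretransitive M α := by
  have := pr_transitive hα h3 R
  refine ⟨fun a b => ?_⟩
  obtain ⟨g, hg⟩ := exists_smul_eq (R : Subgroup (alternatingGroup α)) a b
  exact ⟨⟨g, hM g.2⟩, hg⟩

/-- Solvable overgroups normalise the Sylow subgroup. -/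
theorem pr_le_normalizer (hα : Fintype.card α = p) (h3 : 3 ≤ p) (R : Sylow p (alternatingGroup α))
    {M : Subgroup (alternatingGroup α)} (hM : (R : Subgroup (alternatingGroup α)) ≤ M) (hs : Group.IsSolvable M) :
    M ≤ Subgroup.normalizer ((R : Subgroup (alternatingGroup α)) : Set (alternatingGroup α)) := by
  have := pr_transitive_of_le hα h3 R hM
  have h1 := pd_normal_of_solvable (M := M) hα hs (R.subtype hM)
  have h2 : ((R : Subgroup (alternatingGroup α)).subgroupOf M).Normal := h1
  exact (Subgroup.normal_subgroupOf_iff_le_normalizer hM).1 h2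

theorem pr_card_lt (hα : Fintype.card α = p) (h7 : 7 ≤ p) : p < Nat.card (alternatingGroup α) := by
  have h3 : Nontrivial α := Fintype.one_lt_card_iff_nontrivial.1 (by omega)
  rw [nat_card_alternatingGroup, Nat.card_eq_fintype_card, hα]
  obtain ⟨k, rfl⟩ : ∃ k, p = k + 3 := ⟨p - 3, by omega⟩
  have h1 : (k + 3).factorial = (k + 3) * ((k + 2) * ((k + 1) * k.factorial)) := by
    simp only [Nat.factorial_succ]
  have h2 : 1 ≤ k.factorial := Nat.factorial_pos k
  have h4 : (k + 3) * ((k + 2) * ((k + 1) * 1)) ≤ (k + 3).factorial := by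
    rw [h1]; gcongr
  have h5 : 2 * (k + 4) ≤ (k + 3) * ((k + 2) * ((k + 1) * 1)) := by
    have h6 : 30 ≤ (k + 2) * ((k + 1) * 1) := by nlinarith
    calc 2 * (k + 4) ≤ (k + 3) * 30 := by omega
      _ ≤ (k + 3) * ((k + 2) * ((k + 1) * 1)) := Nat.mul_le_mul_left _ h6
  omega

theorem pr_normalizer_ne_top (hα : Fintype.card α = p) (h7 : 7 ≤ p) (R : Sylow p (alternatingGroup α)) :
    Subgroup.normalizer ((R : Subgroup (alternatingGroup α)) : Set (alternatingGroup α)) ≠ ⊤ := by
  intro h
  rw [Subgroup.normalizer_eq_top_iff] at h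
  have hs : IsSimpleGroup (alternatingGroup α) := alternatingGroup.isSimpleGroup (by
    rw [Nat.card_eq_fintype_card]; omega)
  have htr := pr_transitive hα (by omega) R
  have hpre : IsPretransitive (alternatingGroup α) α :=
    alternatingGroup.isPretransitive_of_three_le_card α (by rw [Nat.card_eq_fintype_card, hα]; omega)
  rcases h.eq_bot_or_eq_top with h1 | h1
  · exact pd_sylow_ne_bot hα R h1
  · have h2 : Nat.card (R : Subgroup (alternatingGroup α)) = p := pd_sylow_card hα R
    rw [h1, Subgroup.card_top] at h2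
    have := pr_card_lt hα h7
    omega

/-- Under the arithmetical hypotheses all proper overgroups are solvable. -/
theorem pr_solvable (hPI : PrimeIdx.{u}) (hα : Fintype.card α = p) (h7 : 7 ≤ p) (h11 : p ≠ 11) (h23 : p ≠ 23)
    (hpsl : ¬ ∃ q d : ℕ, IsPrimePow q ∧ 2 ≤ d ∧ p * (q - 1) = q ^ d - 1) (R : Sylow p (alternatingGroup α))
    {M : Subgroup (alternatingGroup α)} (hRM : (R : Subgroup (alternatingGroup α)) ≤ M) (hM : M ≠ ⊤) :
    Group.IsSolvable M := by
  by_contra hns
  have := pr_transitive_of_le hα (by omega) R hRM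
  obtain ⟨T, hTn, hTs, -, hTc, hTb⟩ := pd_exists_simple (M := M) hα hns
  have htr := pd_normal_transitive (M := M) hα T hTb
  obtain ⟨a⟩ : Nonempty α := Fintype.card_pos_iff.mp (by rw [hα]; exact hp.out.pos)
  have hidx : (stabilizer T a).index = p := by
    rw [index_stabilizer_of_transitive, Nat.card_eq_fintype_card, hα]
  rcases hPI T (fun h => hTc h.is_comm.comm) (stabilizer T a) p hp.out hidx with h | h | h | h
  · obtain ⟨-, ⟨e⟩⟩ := h
    apply hM
    have h1 : Nat.card T = Nat.card (alternatingGroup α) := by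
      rw [Nat.card_congr e.toEquiv]
      have n1 : Nontrivial α := Fintype.one_lt_card_iff_nontrivial.1 (by omega)
      have n2 : Nontrivial (Fin p) := Fintype.one_lt_card_iff_nontrivial.1 (by
        rw [Fintype.card_fin]; omega)
      rw [nat_card_alternatingGroup, nat_card_alternatingGroup, Nat.card_fin, Nat.card_eq_fintype_card, hα]
    have h2 : Nat.card T ≤ Nat.card M := Subgroup.card_le_card_group T
    have h3 : Nat.card M ≤ Nat.card (alternatingGroup α) := Subgroup.card_le_card_group M
    exact Subgroup.eq_top_of_card_eq M (by omega)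
  · obtain ⟨d, F, hF, hF', hd, hcard, -⟩ := h
    apply hpsl
    refine ⟨Fintype.card F, d, ?_, hd, ?_⟩
    · exact FiniteField.isPrimePow_card F
    · exact hcard.symm
  · exact h11 h.1
  · exact h23 h.1

/-- Sufficiency for `n = p`. -/
theorem back_prime (hα : Fintype.card α = p) (h7 : 7 ≤ p) (R : Sylow p (alternatingGroup α))
    (hs : ∀ M : Subgroup (alternatingGroup α), (R : Subgroup (alternatingGroup α)) ≤ M → M ≠ ⊤ → Group.IsSolvable M) :
    ∃! M : Subgroup (alternatingGroup α), IsCoatom M ∧ (R : Subgroup (alternatingGroup α)) ≤ M := by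
  refine existsUnique_of (pr_normalizer_ne_top hα h7 R) Subgroup.le_normalizer ?_
  intro M hM hRM
  exact pr_le_normalizer hα (by omega) R hRM (hs M hRM hM.1)

end

end Cfsg.Agent.H100.AltSyl
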