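import Mathlib
import Cfsg.Agent.H100.AltSyl.PrimeBack
import Cfsg.Agent.S0676
import Cfsg.Agent.S0989

/-!
# Unique maximal overgroups of Sylow subgroups of the alternating groups: the normaliser, `n = r` (helper100)
-/

set_option autoImplicit false

namespace Cfsg.Agent.H100.AltSyl

open MulAction Equiv Equiv.Perm
open scoped Pointwise

section

variable {α : Type*} [Fintype α] [DecidableEq α] {p : ℕ} [hp : Fact p.Prime]

/-- The unique maximal overgroup is normalised by the normaliser of the Sylow subgroup. -/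
theorem normalizer_le_normalizer (R M0 : Subgroup (alternatingGroup α)) (hco : IsCoatom M0) (hR0 : R ≤ M0)
    (hM0 : ∀ M : Subgroup (alternatingGroup α), IsCoatom M ∧ R ≤ M → M = M0) :
    Subgroup.normalizer ((R.map (alternatingGroup α).subtype : Subgroup (Perm α)) : Set (Perm α)) ≤
      Subgroup.normalizer ((M0.map (alternatingGroup α).subtype : Subgroup (Perm α)) : Set (Perm α)) := by
  intro n hn
  let c : MulAut (alternatingGroup α) := MulAut.conjNormal n
  have hc : ∀ a : alternatingGroup α, ((c a : alternatingGroup α) : Perm α) = n * a * n⁻¹ := fun a => rfl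
  have h1 : IsCoatom (M0.map c.toMonoidHom) := ((MulEquiv.mapSubgroup c).isCoatom_iff M0).2 hco
  have h2 : R ≤ M0.map c.toMonoidHom := by
    intro r hr
    have h3 : n * (n⁻¹ * r * n) * n⁻¹ ∈ R.map (alternatingGroup α).subtype := ⟨r, hr, by simp [mul_assoc]⟩
    have h4 := (Subgroup.mem_normalizer_iff.1 hn (n⁻¹ * r * n)).2 h3
    obtain ⟨r0, hr0, h5⟩ := h4
    refine ⟨r0, hR0 hr0, ?_⟩
    apply Subtype.ext
    show n * (r0 : Perm α) * n⁻¹ = r
    have h6 : (r0 : Perm α) = n⁻¹ * r * n := h5
    rw [h6]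
    group
  have h3 := hM0 _ ⟨h1, h2⟩
  rw [Subgroup.mem_normalizer_iff]
  intro h
  constructor
  · rintro ⟨m, hm, rfl⟩
    have h4 : c m ∈ M0 := by
      rw [← h3]
      exact ⟨m, hm, rfl⟩
    exact ⟨c m, h4, hc m⟩
  · rintro ⟨m, hm, h4⟩
    have h5 : m ∈ M0.map c.toMonoidHom := by rw [h3]; exact hm
    obtain ⟨m', hm', rfl⟩ := h5
    refine ⟨m', hm', ?_⟩
    have h6 : n * (m' : Perm α) * n⁻¹ = n * h * n⁻¹ := h4
    exact mul_left_cancel (mul_right_cancel h6)

theorem fwd_setup (hα : Fintype.card α = p) (h7 : 7 ≤ p) (R : Sylow p (alternatingGroup α))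
    (M0 : Subgroup (alternatingGroup α)) (hco : IsCoatom M0) (hR0 : (R : Subgroup (alternatingGroup α)) ≤ M0)
    (hM0 : ∀ M : Subgroup (alternatingGroup α), IsCoatom M ∧ (R : Subgroup (alternatingGroup α)) ≤ M → M = M0)
    (hns : ¬ Group.IsSolvable M0) :
    ∃ G0 : Subgroup (Perm α), M0.map (alternatingGroup α).subtype ≤ G0 ∧
      ((M0.map (alternatingGroup α).subtype).subgroupOf G0).Normal ∧
      ¬ alternatingGroup α ≤ G0 ∧ IsPretransitive G0 α ∧ ¬ Group.IsSolvable G0 ∧
      IsMultiplyPretransitive G0 α 3 ∧ ∃ n, Nat.card G0 = p * (p - 1) * n ∧ n ≡ 1 [MOD p] := by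
  set G0 : Subgroup (Perm α) :=
    Subgroup.normalizer ((M0.map (alternatingGroup α).subtype : Subgroup (Perm α)) : Set (Perm α)) with hG0
  have hle : M0.map (alternatingGroup α).subtype ≤ G0 := Subgroup.le_normalizer
  have hnr := normalizer_le_normalizer (R : Subgroup (alternatingGroup α)) M0 hco hR0 hM0
  rw [← hG0] at hnr
  have hRtr := pr_transitive hα (by omega) R
  have hRpre : IsPretransitive (alternatingGroup α) α :=
    alternatingGroup.isPretransitive_of_three_le_card α (by rw [Nat.card_eq_fintype_card, hα]; omega)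
  -- the image of `R`
  set R' : Subgroup (Perm α) := (R : Subgroup (alternatingGroup α)).map (alternatingGroup α).subtype with hR'
  have hR'c : Nat.card R' = p := by
    rw [hR', Subgroup.card_map_of_injective (Subgroup.subtype_injective _)]
    exact pd_sylow_card hα R
  have hR'G : R' ≤ G0 := (Subgroup.map_mono hR0).trans hle
  have htr : IsPretransitive G0 α := by
    refine ⟨fun a b => ?_⟩
    obtain ⟨g, hg⟩ := exists_smul_eq (R : Subgroup (alternatingGroup α)) a b
    exact ⟨⟨(g : alternatingGroup α), hR'G ⟨g, g.2, rfl⟩⟩, hg⟩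
  have hsol : ¬ Group.IsSolvable G0 := by
    intro h
    apply hns
    let φ : M0 →* G0 :=
      { toFun := fun m => ⟨(m : alternatingGroup α), hle ⟨m, m.2, rfl⟩⟩
        map_one' := rfl
        map_mul' := fun _ _ => rfl }
    refine Group.isSolvable_of_isSolvable_injective (f := φ) ?_
    intro a b h
    have h1 : ((a : alternatingGroup α) : Perm α) = ((b : alternatingGroup α) : Perm α) := congrArg (fun z : G0 => (z : Perm α)) h
    exact Subtype.ext (Subtype.ext h1)
  have hnA : ¬ alternatingGroup α ≤ G0 := by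
    intro h
    have hs : IsSimpleGroup (alternatingGroup α) := alternatingGroup.isSimpleGroup (by
      rw [Nat.card_eq_fintype_card]; omega)
    have h1 : M0.Normal := by
      refine ⟨fun m hm g => ?_⟩
      have h2 := (Subgroup.mem_normalizer_iff.1 (h g.2) (m : Perm α)).1 ⟨m, hm, rfl⟩
      obtain ⟨m', hm', h3⟩ := h2
      have h4 : g * m * g⁻¹ = m' := Subtype.ext h3.symm
      rw [h4]
      exact hm'
    rcases h1.eq_bot_or_eq_top with h2 | h2
    · apply pd_sylow_ne_bot hα R
      rw [eq_bot_iff, ← h2]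
      exact hR0
    · exact hco.1 h2
  -- the Sylow subgroups
  have hQc : Nat.card (R'.subgroupOf G0) = p := by
    rw [Nat.card_congr (Subgroup.subgroupOfEquivOfLe hR'G).toEquiv, hR'c]
  let Q : Sylow p G0 := Sylow.ofCard (R'.subgroupOf G0) (by rw [hQc, pd_factorization (M := G0) hα, pow_one])
  have hPtr : IsPretransitive (Perm α) α := inferInstance
  let RP : Sylow p (Perm α) := Sylow.ofCard R' (by rw [hR'c, pd_factorization (M := Perm α) hα, pow_one])
  have hN := Cfsg.Agent.S0989.result p (Or.inl hα) RP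
  have hN' : Nat.card (Subgroup.normalizer ((R' : Subgroup (Perm α)) : Set (Perm α))) = p * (p - 1) := hN
  have hNQ : Nat.card (Subgroup.normalizer ((Q : Subgroup G0) : Set G0)) = p * (p - 1) := by
    have h1 : Subgroup.normalizer ((Q : Subgroup G0) : Set G0) =
        (Subgroup.normalizer ((R' : Subgroup (Perm α)) : Set (Perm α))).subgroupOf G0 := by
      show Subgroup.normalizer ((R'.subgroupOf G0 : Subgroup G0) : Set G0) = _
      rw [Subgroup.subgroupOf_normalizer_eq hR'G]
    rw [h1, Nat.card_congr (Subgroup.subgroupOfEquivOfLe hnr).toEquiv, hN']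
  have heven : Even (Nat.card (Subgroup.normalizer ((Q : Subgroup G0) : Set G0))) := by
    rw [hNQ]
    apply Even.mul_left
    have h1 : Odd p := hp.out.odd_of_ne_two (by omega)
    obtain ⟨k, hk⟩ := h1
    exact ⟨k, by omega⟩
  refine ⟨G0, hle, ?_, hnA, htr, hsol, Cfsg.Agent.S0676.result hα G0 hsol Q heven, Nat.card (Sylow p G0), ?_,
    card_sylow_modEq_one p G0⟩
  · rw [Subgroup.normal_subgroupOf_iff_le_normalizer hle]
  · rw [Sylow.card_eq_index_normalizer Q, ← hNQ]
    exact (Subgroup.card_mul_index (Subgroup.normalizer ((Q : Subgroup G0) : Set G0))).symm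

end

end Cfsg.Agent.H100.AltSyl
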