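import Mathlib
import Cfsg.Agent.H100.AltSyl.Embed
import Cfsg.Agent.TwoFusion.SLTwoFacts
import Cfsg.Agent.LieClassical.SLGen

/-!
# `PSL` on the points of the projective space (helper100)
-/

set_option autoImplicit false

namespace Cfsg.Agent.H100.AltSyl

open MulAction Equiv Equiv.Perm
open scoped LinearAlgebra.Projectivization Pointwise

theorem dvd_card_of_two_transitive {H X : Type*} [Group H] [MulAction H X] [Finite X]
    (h2 : IsMultiplyPretransitive H X 2) (h1 : 2 ≤ Nat.card X) : Nat.card X * (Nat.card X - 1) ∣ Nat.card H := by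
  classical
  have h3 : IsPretransitive H (Fin 2 ↪ X) := h2
  have hft : Fintype X := Fintype.ofFinite X
  obtain ⟨x⟩ : Nonempty (Fin 2 ↪ X) := Function.Embedding.nonempty_of_card_le (by
    rwa [Fintype.card_fin, ← Nat.card_eq_fintype_card])
  have h4 := index_stabilizer_of_transitive H x
  have h5 := (stabilizer H x).index_dvd_card
  rw [h4] at h5
  rw [Nat.card_eq_fintype_card, Fintype.card_embedding_eq, Fintype.card_fin] at h5
  rw [Nat.card_eq_fintype_card (α := X)]
  convert h5 using 1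
  rw [Nat.descFactorial_succ, Nat.descFactorial_one, mul_comm]

theorem not_comm_of_two_transitive {H X : Type*} [Group H] [MulAction H X] [FaithfulSMul H X]
    (h2 : IsMultiplyPretransitive H X 2) {a b c : X} (hab : a ≠ b) (hac : a ≠ c) (hbc : b ≠ c) :
    ¬ ∀ x y : H, x * y = y * x := by
  intro hcomm
  rw [is_two_pretransitive_iff] at h2
  obtain ⟨h, ha, hb⟩ := h2 hab hac
  have h1 : h = 1 := by
    apply FaithfulSMul.eq_of_smul_eq_smul (α := X)
    intro x
    rw [one_smul]
    rcases eq_or_ne x a with rfl | hx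
    · exact ha
    obtain ⟨g, hg, -⟩ := h2 hab (Ne.symm hx.symm : x ≠ a)
    rw [← hg, ← mul_smul, hcomm, mul_smul, ha]
  rw [h1, one_smul] at hb
  exact hbc hb

section

variable {ι F : Type*} [Fintype ι] [DecidableEq ι] [Field F]

theorem psl_two_transitive :
    IsMultiplyPretransitive (Matrix.ProjectiveSpecialLinearGroup ι F) (ℙ F (ι → F)) 2 := by
  have h : IsMultiplyPretransitive (Matrix.SpecialLinearGroup ι F) (ℙ F (ι → F)) 2 := inferInstance
  rw [is_two_pretransitive_iff] at h ⊢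
  intro a b c d hab hcd
  obtain ⟨g, h1, h2⟩ := h hab hcd
  refine ⟨(g : Matrix.ProjectiveSpecialLinearGroup ι F), ?_, ?_⟩
  · rw [Matrix.ProjectiveSpecialLinearGroup.smul_proj_mk]; exact h1
  · rw [Matrix.ProjectiveSpecialLinearGroup.smul_proj_mk]; exact h2

omit [Fintype ι] in
theorem three_points [Nontrivial ι] : ∃ a b c : ℙ F (ι → F), a ≠ b ∧ a ≠ c ∧ b ≠ c := by
  obtain ⟨i, j, hij⟩ := exists_pair_ne ι
  have h1 : (Pi.single i (1 : F) : ι → F) ≠ 0 := Pi.single_ne_zero_iff.2 one_ne_zero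
  have h2 : (Pi.single j (1 : F) : ι → F) ≠ 0 := Pi.single_ne_zero_iff.2 one_ne_zero
  have h3 : (Pi.single i (1 : F) + Pi.single j (1 : F) : ι → F) ≠ 0 := by
    intro h
    have := congrFun h i
    simp [hij] at this
  refine ⟨Projectivization.mk F _ h1, Projectivization.mk F _ h2, Projectivization.mk F _ h3, ?_, ?_, ?_⟩
  · rw [Ne, Projectivization.mk_eq_mk_iff']
    rintro ⟨a, ha⟩
    have := congrFun ha i
    simp [hij] at this
  · rw [Ne, Projectivization.mk_eq_mk_iff']
    rintro ⟨a, ha⟩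
    have h4 := congrFun ha i
    have h5 := congrFun ha j
    simp [hij, hij.symm] at h4 h5
    rw [h5] at h4
    exact zero_ne_one h4
  · rw [Ne, Projectivization.mk_eq_mk_iff']
    rintro ⟨a, ha⟩
    have h4 := congrFun ha i
    have h5 := congrFun ha j
    simp [hij, hij.symm] at h4 h5
    rw [h4] at h5
    exact zero_ne_one h5

theorem psl_not_comm [Nontrivial ι] : ¬ ∀ x y : Matrix.ProjectiveSpecialLinearGroup ι F, x * y = y * x := by
  obtain ⟨a, b, c, h1, h2, h3⟩ := three_points (ι := ι) (F := F)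
  exact not_comm_of_two_transitive psl_two_transitive h1 h2 h3

end

/-! ### Degree `p + 1` -/

section

variable {α : Type*} [Fintype α] [DecidableEq α]

theorem card_bound {k : ℕ} (hk : 3 ≤ k) : (k + 4) ^ 4 < (k + 5).factorial / 2 := by
  have h1 : (k + 5).factorial = (k + 5) * ((k + 4) * ((k + 3) * ((k + 2) * ((k + 1) * k.factorial)))) := by
    simp only [Nat.factorial_succ]
  have h2 : 1 ≤ k.factorial := Nat.factorial_pos k
  have h3 : 2 * ((k + 4) ^ 4 + 1) ≤ (k + 5) * ((k + 4) * ((k + 3) * ((k + 2) * ((k + 1) * 1)))) := by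
    obtain ⟨j, rfl⟩ := Nat.exists_eq_add_of_le hk
    ring_nf
    nlinarith [Nat.zero_le j, Nat.zero_le (j ^ 2), Nat.zero_le (j ^ 3), Nat.zero_le (j ^ 4), Nat.zero_le (j ^ 5)]
  have h4 : (k + 5) * ((k + 4) * ((k + 3) * ((k + 2) * ((k + 1) * 1)))) ≤ (k + 5).factorial := by
    rw [h1]
    gcongr
  have h5 : 2 * ((k + 4) ^ 4 + 1) ≤ (k + 5).factorial := h3.trans h4
  omega

/-- In degree `p + 1` a Sylow `p`-subgroup of the alternating group lies in a proper transitive subgroup. -/
theorem exists_transitive_succ {p : ℕ} [hp : Fact p.Prime] (h7 : 7 ≤ p) (hα : Fintype.card α = p + 1)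
    (R : Subgroup (alternatingGroup α)) (hR : IsPGroup p R) :
    ∃ X : Subgroup (alternatingGroup α), X ≠ ⊤ ∧ R ≤ X ∧ ∀ x : α, ¬ X ≤ stabilizer (alternatingGroup α) ({x} : Set α) := by
  have hF : 3 < Fintype.card (ZMod p) := by rw [ZMod.card]; omega
  have hs : IsSimpleGroup (Matrix.ProjectiveSpecialLinearGroup (Fin 2) (ZMod p)) :=
    Cfsg.Agent.TwoFusion.SLTwoFacts.isSimpleGroup_psl hF
  have hX : Nat.card (ℙ (ZMod p) (Fin 2 → ZMod p)) = p + 1 := by
    rw [Projectivization.card_of_finrank_two (k := ZMod p) (V := Fin 2 → ZMod p) (by simp), Nat.card_zmod]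
  have hfinX : Finite (ℙ (ZMod p) (Fin 2 → ZMod p)) := (Nat.card_ne_zero.1 (by rw [hX]; omega)).2
  have h2t := psl_two_transitive (ι := Fin 2) (F := ZMod p)
  have hpre : IsPretransitive (Matrix.ProjectiveSpecialLinearGroup (Fin 2) (ZMod p)) (ℙ (ZMod p) (Fin 2 → ZMod p)) :=
    isPretransitive_of_is_two_pretransitive
  obtain ⟨a, b, c, hab, -, -⟩ := three_points (ι := Fin 2) (F := ZMod p)
  -- `p` divides the order
  have hdvd : p ∣ Nat.card (Matrix.ProjectiveSpecialLinearGroup (Fin 2) (ZMod p)) := by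
    have h1 := dvd_card_of_two_transitive h2t (by omega)
    rw [hX, Nat.add_sub_cancel] at h1
    exact (dvd_mul_left _ _).trans h1
  have hcard : Nat.card (Matrix.ProjectiveSpecialLinearGroup (Fin 2) (ZMod p)) ≤ p ^ 4 := by
    have h1 : Nat.card (Matrix.ProjectiveSpecialLinearGroup (Fin 2) (ZMod p)) ≤
        Nat.card (Matrix.SpecialLinearGroup (Fin 2) (ZMod p)) := Nat.card_le_card_of_surjective _ (QuotientGroup.mk_surjective)
    have h2 : Nat.card (Matrix.SpecialLinearGroup (Fin 2) (ZMod p)) ≤ Nat.card (Matrix (Fin 2) (Fin 2) (ZMod p)) :=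
      Nat.card_le_card_of_injective _ Subtype.val_injective
    have h3 : Nat.card (Matrix (Fin 2) (Fin 2) (ZMod p)) = p ^ 4 := by
      show Nat.card (Fin 2 → Fin 2 → ZMod p) = p ^ 4
      rw [Nat.card_fun, Nat.card_fun, Nat.card_zmod, Nat.card_fin, ← pow_mul]
    omega
  obtain ⟨ψ, e, hinj, hequiv, hRψ⟩ := exists_embed (α := α) R hR (not_sq_dvd_card_alt (by omega) (by omega))
    (X := ℙ (ZMod p) (Fin 2 → ZMod p)) psl_not_comm hdvd (by rw [hX, hα]) (by omega)
  refine ⟨ψ.range, ?_, hRψ, ?_⟩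
  · intro h
    have h1 : Nat.card ψ.range = Nat.card (alternatingGroup α) := by rw [h]; exact Nat.card_congr Subgroup.topEquiv.toEquiv
    have h2 : Nat.card ψ.range = Nat.card (Matrix.ProjectiveSpecialLinearGroup (Fin 2) (ZMod p)) :=
      (Nat.card_congr (MonoidHom.ofInjective hinj).toEquiv).symm
    have h3 : Nontrivial α := Fintype.one_lt_card_iff_nontrivial.1 (by omega)
    rw [nat_card_alternatingGroup, Nat.card_eq_fintype_card (α := α), hα] at h1
    obtain ⟨k, rfl⟩ : ∃ k, p = k + 4 := ⟨p - 4, by omega⟩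
    have h4 := card_bound (k := k) (by omega)
    rw [show k + 4 + 1 = k + 5 from rfl] at h1
    omega
  · intro x hx
    obtain ⟨y, hy⟩ : ∃ y, y ≠ e.symm x := by
      rcases ne_or_eq a (e.symm x) with h | h
      · exact ⟨a, h⟩
      · exact ⟨b, by rw [← h]; exact hab.symm⟩
    obtain ⟨g, hg⟩ := exists_smul_eq (Matrix.ProjectiveSpecialLinearGroup (Fin 2) (ZMod p)) (e.symm x) y
    have h1 : ψ g ∈ stabilizer (alternatingGroup α) ({x} : Set α) := hx ⟨g, rfl⟩
    rw [stabilizer_singleton, mem_stabilizer_iff] at h1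
    have h2 : (ψ g : Perm α) (e (e.symm x)) = e (g • (e.symm x)) := hequiv g _
    rw [Equiv.apply_symm_apply, hg] at h2
    have h3 : (ψ g : Perm α) x = x := h1
    rw [h3] at h2
    exact hy (by rw [h2, Equiv.symm_apply_apply])

end

end Cfsg.Agent.H100.AltSyl
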